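import Cfsg.Agent.H97.Frame.Main

/-!
Six orthonormal lines over the field of three elements: a group over the monomial products of two reflections in
which the stabiliser of a line is monomial is monomial.
-/

set_option autoImplicit false

namespace Cfsg.Agent.H12.CSix.Four

open QuadraticMap Module Cfsg.Agent.Orthogonal Cfsg.Agent.H97.Frame

variable {F V : Type*} [Field F] [AddCommGroup V] [Module F V]
variable {Q : QuadraticForm F V} {e : Fin 6 → V}

/-- An overgroup of the monomial products of two reflections, over three elements. -/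
structure SixThree (H : ONB Q e (1 : F)) (X : Subgroup (O Q)) : Prop where
  three : (3 : F) = 0
  cases : ∀ x : F, x = 0 ∨ x * x = 1
  pairs : ∀ a b, Q a ≠ 0 → Q b = Q a → rO Q a * rO Q b ∈ H.mono → rO Q a * rO Q b ∈ X
  fix : ∀ g ∈ X, (g : V ≃ₗ[F] V) (e 0) = e 0 → g ∈ H.mono

variable {H : ONB Q e (1 : F)} {X : Subgroup (O Q)} (hX : SixThree H X)
include hX

/-- An element mapping one line to a line is monomial. -/
theorem SixThree.axis {g : O Q} (hg : g ∈ X) {a : Fin 6} (h : H.Ax ((g : V ≃ₗ[F] V) (e a))) : g ∈ H.mono := by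
  have move : ∀ i j : Fin 6, ∃ π, π ∈ X ∧ π ∈ H.mono ∧ (π : V ≃ₗ[F] V) (e i) = e j := by
    intro i j
    rcases eq_or_ne i j with rfl | hij
    · exact ⟨1, one_mem _, one_mem _, by simp⟩
    obtain ⟨p, q, hpi, hpj, hqi, hqj, hpq⟩ : ∃ p q : Fin 6, p ≠ i ∧ p ≠ j ∧ q ≠ i ∧ q ≠ j ∧ p ≠ q :=
      (by decide +kernel : ∀ i j : Fin 6, ∃ p q : Fin 6, p ≠ i ∧ p ≠ j ∧ q ≠ i ∧ q ≠ j ∧ p ≠ q) i j
    have hm : rO Q (e i - (1 : F) • e j) * rO Q (e p - (1 : F) • e q) ∈ H.mono :=
      H.mono.mul_mem (H.isMono_swp hij (one_mul 1)) (H.isMono_swp hpq (one_mul 1))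
    refine ⟨_, hX.pairs _ _ (by rw [H.qmap_swp hij (one_mul 1)]; exact H.two_c)
      (by rw [H.qmap_swp hij (one_mul 1), H.qmap_swp hpq (one_mul 1)]) hm, hm, ?_⟩
    rw [Subgroup.coe_mul, mul_app, H.supp_swp _ (by simp [Ne.symm hpi, Ne.symm hqi]),
      H.rO_swp_left hij (one_mul 1), one_smul]
  obtain ⟨j, hj⟩ := ONB.Ax.eq H h (by rw [O.map_app, H.val])
  obtain ⟨π, hπX, hπm, hπ⟩ := move j 0
  obtain ⟨ρ, hρX, hρm, hρ⟩ := move 0 a
  have h01 : (0 : Fin 6) ≠ 1 := by decide
  have hd1 : H.IsDiag (rO Q (e (0 : Fin 6)) * rO Q (e 1)) {0, 1} := H.isDiag_pair h01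
  set d := rO Q (e (0 : Fin 6)) * rO Q (e 1) with hd
  have hdX : d ∈ X := hX.pairs _ _ (by rw [H.val]; exact H.c0) (by rw [H.val, H.val]) (ONB.IsDiag.mono H hd1)
  have hval : (π * g * ρ : O Q) ∈ X := X.mul_mem (X.mul_mem hπX hg) hρX
  suffices hm : π * g * ρ ∈ H.mono by
    have h' := H.mono.mul_mem (H.mono.mul_mem (H.mono.inv_mem hπm) hm) (H.mono.inv_mem hρm)
    rwa [show π⁻¹ * (π * g * ρ) * ρ⁻¹ = g by group] at h'
  rcases hj with hj | hj
  · exact hX.fix _ hval (by simp [Subgroup.coe_mul, mul_app, hρ, hj, hπ])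
  · have hm := hX.fix _ (X.mul_mem hdX hval) (by
      have hv : ((π * g * ρ : O Q) : V ≃ₗ[F] V) (e 0) = -e 0 := by
        simp [Subgroup.coe_mul, mul_app, hρ, hj, hπ]
      rw [Subgroup.coe_mul, mul_app, hv, map_neg, hd1 0, if_pos (by simp), neg_neg])
    have h' := H.mono.mul_mem (H.mono.inv_mem (ONB.IsDiag.mono H hd1)) hm
    rwa [inv_mul_cancel_left] at h'

omit hX in
/-- The support of a vector. -/
noncomputable def sup (H : ONB Q e (1 : F)) (v : V) : Finset (Fin 6) :=
  letI := Classical.decEq F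
  Finset.univ.filter fun i => H.co i v ≠ 0

omit hX in
theorem mem_sup {v : V} {i : Fin 6} : i ∈ sup H v ↔ H.co i v ≠ 0 := by
  classical simp [sup]

theorem SixThree.sq_of_mem {v : V} {i : Fin 6} (h : i ∈ sup H v) : H.co i v * H.co i v = 1 :=
  (hX.cases _).resolve_left (mem_sup.1 h)

theorem SixThree.sup_card {v : V} (hv : Q v = 1) : (sup H v).card = 1 ∨ (sup H v).card = 4 := by
  classical
  have h := H.dot_self_unit hv
  rw [H.dot_eq_sum, ← Finset.sum_subset (Finset.subset_univ (sup H v))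
    (fun i _ hi => by rw [not_not.1 (mem_sup.not.1 hi), mul_zero]),
    Finset.sum_congr rfl (fun i hi => hX.sq_of_mem hi), Finset.sum_const, nsmul_eq_mul, mul_one] at h
  have hle : (sup H v).card ≤ 6 := by simpa using Finset.card_le_univ (sup H v)
  have h3 := hX.three
  interval_cases hn : (sup H v).card <;> first
    | omega
    | (exfalso; norm_num at h; done)
    | (exfalso; exact one_ne_zero (α := F) (by linear_combination h))
    | (exfalso; exact one_ne_zero (α := F) (by linear_combination h - h3))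
    | (exfalso; exact one_ne_zero (α := F) (by linear_combination -h + h3))
    | (exfalso; exact one_ne_zero (α := F) (by linear_combination h - 2 * h3))
    | (exfalso; exact one_ne_zero (α := F) (by linear_combination -h + 2 * h3))

omit hX in
theorem co_rO {x w : V} {a : F} (hx : Q x = a) (ha : a ≠ 0) (i : Fin 6) :
    H.co i ((rO Q x : V ≃ₗ[F] V) w) = H.co i w - a⁻¹ * (2 * H.dot x w) * H.co i x := by
  have hp : polar Q x w = 2 * H.dot x w := by
    rw [ONB.dot, mul_one, mul_inv_cancel_left₀ H.two]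
  rw [rO_app, H.co_sub, H.co_smul, hx, hp]

omit hX in
theorem dot_e (x : V) (i : Fin 6) : H.dot x (e i) = H.co i x := by rw [H.dot_comm]; rfl

omit hX in
theorem not_ax {v : V} {i j : Fin 6} (hij : i ≠ j) (hi : H.co i v ≠ 0) (hj : H.co j v ≠ 0) : ¬ H.Ax v := by
  rintro ⟨k, hk⟩
  obtain ⟨a, rfl⟩ := Submodule.mem_span_singleton.1 hk
  rcases eq_or_ne i k with rfl | h
  · exact hj (by rw [H.co_smul, H.co_ne hij.symm, mul_zero])
  · exact hi (by rw [H.co_smul, H.co_ne h, mul_zero])

/-- Two orthogonal unit vectors with different supports of four lines. -/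
theorem SixThree.cross {v u : V} (hv : Q v = 1) (hu : Q u = 1) (hvu : H.dot v u = 0)
    (hcv : (sup H v).card = 4) (hcu : (sup H u).card = 4) (hne : sup H v ≠ sup H u)
    (hy : rO Q v * rO Q u ∈ X) : False := by
  classical
  have h2 : (2 : F) = -1 := by linear_combination hX.three
  have huv : H.dot u v = 0 := by rw [H.dot_comm, hvu]
  have hcap : 2 ≤ (sup H v ∩ sup H u).card ∧ (sup H v ∩ sup H u).card < 4 := by
    have h1 := Finset.card_union_add_card_inter (sup H v) (sup H u)
    have h6 := Finset.card_le_univ (sup H v ∪ sup H u)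
    simp only [Fintype.card_fin] at h6
    refine ⟨by omega, Nat.lt_of_not_le fun h4 => hne ?_⟩
    have e1 := Finset.eq_of_subset_of_card_le Finset.inter_subset_left (show (sup H v).card ≤ (sup H v ∩ sup H u).card by omega)
    have e2 := Finset.eq_of_subset_of_card_le Finset.inter_subset_right (show (sup H u).card ≤ (sup H v ∩ sup H u).card by omega)
    rw [← e1, e2]
  have hzero : ∀ {w : V} {i : Fin 6}, i ∉ sup H w → H.co i w = 0 := fun hi => not_not.1 (mem_sup.not.1 hi)
  rcases (show (sup H v ∩ sup H u).card = 3 ∨ (sup H v ∩ sup H u).card = 2 by omega) with h3 | h2c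
  · -- three common lines: a line outside is fixed
    obtain ⟨d, hd⟩ : (sup H v \ sup H u).Nonempty := Finset.card_pos.1 (by
      have := Finset.card_sdiff_add_card_inter (sup H v) (sup H u); omega)
    obtain ⟨a, ha⟩ : (sup H v ∩ sup H u).Nonempty := Finset.card_pos.1 (by omega)
    obtain ⟨k, hk⟩ : (Finset.univ \ (sup H v ∪ sup H u)).Nonempty := Finset.card_pos.1 (by
      rw [Finset.card_sdiff_of_subset (Finset.subset_univ _), Finset.card_univ, Fintype.card_fin]
      have := Finset.card_union_add_card_inter (sup H v) (sup H u); omega)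
    simp only [Finset.mem_sdiff, Finset.mem_inter, Finset.mem_union, Finset.mem_univ, true_and, not_or] at hd ha hk
    have hfix : ∀ {w : V} {i : Fin 6}, i ∉ sup H w → (rO Q w : V ≃ₗ[F] V) (e i) = e i := fun hi =>
      rO_fix (H.polar_of_dot (by rw [dot_e]; exact hzero hi))
    have hm := hX.axis hy (a := k) (by
      rw [Subgroup.coe_mul, mul_app, hfix hk.2, hfix hk.1]; exact H.ax_e k)
    have hda : d ≠ a := fun e => hd.2 (e ▸ ha.2)
    refine not_ax hda ?_ ?_ (hm d)
    · rw [Subgroup.coe_mul, mul_app, hfix hd.2, co_rO hv one_ne_zero, H.co_self, dot_e, inv_one, one_mul,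
        mul_assoc, hX.sq_of_mem hd.1, mul_one]
      intro h
      exact one_ne_zero (α := F) (by linear_combination -h)
    · rw [Subgroup.coe_mul, mul_app, hfix hd.2, co_rO hv one_ne_zero, H.co_ne hda.symm, dot_e, inv_one, one_mul,
        zero_sub, neg_ne_zero]
      exact mul_ne_zero (mul_ne_zero H.two (mem_sup.1 hd.1)) (mem_sup.1 ha.1)
  -- two common lines
  obtain ⟨a, b, hab, hAB⟩ := Finset.card_eq_two.1 h2c
  obtain ⟨c, d, hcd, hCD⟩ := Finset.card_eq_two.1 (show (sup H v \ sup H u).card = 2 by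
    have := Finset.card_sdiff_add_card_inter (sup H v) (sup H u); omega)
  obtain ⟨s, t, hst, hST⟩ := Finset.card_eq_two.1 (show (sup H u \ sup H v).card = 2 by
    have := Finset.card_sdiff_add_card_inter (sup H u) (sup H v)
    rw [Finset.inter_comm] at this; omega)
  have ma : a ∈ sup H v ∧ a ∈ sup H u := Finset.mem_inter.1 (by rw [hAB]; simp)
  have mc : c ∈ sup H v ∧ c ∉ sup H u := Finset.mem_sdiff.1 (by rw [hCD]; simp)
  have md : d ∈ sup H v ∧ d ∉ sup H u := Finset.mem_sdiff.1 (by rw [hCD]; simp)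
  have ms : s ∈ sup H u ∧ s ∉ sup H v := Finset.mem_sdiff.1 (by rw [hST]; simp)
  have mt : t ∈ sup H u ∧ t ∉ sup H v := Finset.mem_sdiff.1 (by rw [hST]; simp)
  have hac : a ≠ c := fun e => mc.2 (e ▸ ma.2)
  have had : a ≠ d := fun e => md.2 (e ▸ ma.2)
  have has : a ≠ s := fun e => ms.2 (e ▸ ma.1)
  have hat : a ≠ t := fun e => mt.2 (e ▸ ma.1)
  have hcs : c ≠ s := fun e => ms.2 (e ▸ mc.1)
  have hct : c ≠ t := fun e => mt.2 (e ▸ mc.1)
  have hds : d ≠ s := fun e => ms.2 (e ▸ md.1)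
  have hdt : d ≠ t := fun e => mt.2 (e ▸ md.1)
  set va := H.co a v with hva
  set ua := H.co a u with hua
  have sa := hX.sq_of_mem ma.1
  have sa' := hX.sq_of_mem ma.2
  have sc := hX.sq_of_mem mc.1
  have sd := hX.sq_of_mem md.1
  have ss := hX.sq_of_mem ms.1
  have st := hX.sq_of_mem mt.1
  rw [← hva] at sa
  rw [← hua] at sa'
  set Ac := va * H.co c v with hAc
  set Ad := va * H.co d v with hAd
  set As := ua * H.co s u with hAs
  set At := ua * H.co t u with hAt
  have qc : Ac * Ac = 1 := by rw [hAc]; linear_combination (H.co c v * H.co c v) * sa + sc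
  have qd : Ad * Ad = 1 := by rw [hAd]; linear_combination (H.co d v * H.co d v) * sa + sd
  have qs : As * As = 1 := by rw [hAs]; linear_combination (H.co s u * H.co s u) * sa' + ss
  have qt : At * At = 1 := by rw [hAt]; linear_combination (H.co t u * H.co t u) * sa' + st
  set x₁ := Ac • e c - As • e s with hx₁
  set x₂ := Ad • e d - At • e t with hx₂
  have qsm : ∀ {A : F} (i : Fin 6), A * A = 1 → Q (A • e i) = 1 := fun i hA => by
    rw [qmap_smul, H.val]; linear_combination hA
  have dsm : ∀ {A B : F} {i j : Fin 6}, i ≠ j → H.dot (A • e i) (B • e j) = 0 := fun hij => by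
    rw [H.dot_smul_left, H.dot_smul_right, dot_e, H.co_ne hij.symm]; ring
  have q₁ : Q x₁ = 2 := by
    rw [hx₁, qmap_sub, qsm c qc, qsm s qs, H.polar_of_dot (dsm hcs)]; ring
  have q₂ : Q x₂ = 2 := by
    rw [hx₂, qmap_sub, qsm d qd, qsm t qt, H.polar_of_dot (dsm hdt)]; ring
  have hmm : rO Q x₁ * rO Q x₂ ∈ H.mono := H.mono.mul_mem
    (H.isMono_sub ((H.ax_e c).smul H Ac) ((H.ax_e s).smul H As) (qsm c qc) (qsm s qs) (dsm hcs))
    (H.isMono_sub ((H.ax_e d).smul H Ad) ((H.ax_e t).smul H At) (qsm d qd) (qsm t qt) (dsm hdt))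
  have hmX := hX.pairs x₁ x₂ (by rw [q₁]; exact H.two) (by rw [q₁, q₂]) hmm
  set y := rO Q v * rO Q u with hydef
  set X₁ := (y : V ≃ₗ[F] V) x₁ with hX₁
  set X₂ := (y : V ≃ₗ[F] V) x₂ with hX₂
  have hm' : rO Q X₁ * rO Q X₂ ∈ X := by
    have := X.mul_mem (X.mul_mem hy hmX) (X.inv_mem hy)
    rwa [show y * (rO Q x₁ * rO Q x₂) * y⁻¹ = y * rO Q x₁ * y⁻¹ * (y * rO Q x₂ * y⁻¹) by group, conj_rO,
      conj_rO] at this
  -- the coordinates of the images
  have hy_co : ∀ (x : V) (i : Fin 6), H.co i ((y : V ≃ₗ[F] V) x) =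
      H.co i x + H.dot u x * H.co i u + H.dot v x * H.co i v := by
    intro x i
    have hd : H.dot v ((rO Q u : V ≃ₗ[F] V) x) = H.dot v x := by
      conv_lhs => rw [← H.dot_app (rO Q u)]
      rw [rO_fix (H.polar_of_dot huv), ← mul_app, ← Subgroup.coe_mul, rO_mul_self]
      rfl
    rw [hydef, Subgroup.coe_mul, mul_app, co_rO hv one_ne_zero, hd, co_rO hu one_ne_zero, inv_one, h2]
    ring
  have d₁ : H.dot v x₁ = va := by
    rw [hx₁, H.dot_sub_right, H.dot_smul_right, H.dot_smul_right, dot_e, dot_e, hzero ms.2, hAc]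
    linear_combination va * sc
  have e₁ : H.dot u x₁ = -ua := by
    rw [hx₁, H.dot_sub_right, H.dot_smul_right, H.dot_smul_right, dot_e, dot_e, hzero mc.2, hAs]
    linear_combination -ua * ss
  have d₂ : H.dot v x₂ = va := by
    rw [hx₂, H.dot_sub_right, H.dot_smul_right, H.dot_smul_right, dot_e, dot_e, hzero mt.2, hAd]
    linear_combination va * sd
  have e₂ : H.dot u x₂ = -ua := by
    rw [hx₂, H.dot_sub_right, H.dot_smul_right, H.dot_smul_right, dot_e, dot_e, hzero md.2, hAt]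
    linear_combination -ua * st
  have c1a : H.co a X₁ = 0 := by
    rw [hX₁, hy_co, d₁, e₁, hx₁, H.co_sub, H.co_smul, H.co_smul, H.co_ne hac, H.co_ne has]
    linear_combination sa - sa'
  have c2a : H.co a X₂ = 0 := by
    rw [hX₂, hy_co, d₂, e₂, hx₂, H.co_sub, H.co_smul, H.co_smul, H.co_ne had, H.co_ne hat]
    linear_combination sa - sa'
  have hm := hX.axis hm' (a := a) (by
    have f1 : polar Q X₁ (e a) = 0 := H.polar_of_dot ((dot_e _ _).trans c1a)
    have f2 : polar Q X₂ (e a) = 0 := H.polar_of_dot ((dot_e _ _).trans c2a)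
    rw [Subgroup.coe_mul, mul_app, rO_fix f2, rO_fix f1]
    exact H.ax_e a)
  have c1c : H.co c X₁ = -Ac := by
    rw [hX₁, hy_co, d₁, e₁, hx₁, H.co_sub, H.co_smul, H.co_smul, H.co_self, H.co_ne hcs, hzero mc.2, hAc]
    linear_combination (va * H.co c v) * hX.three
  have c2c : H.co c X₂ = Ac := by
    rw [hX₂, hy_co, d₂, e₂, hx₂, H.co_sub, H.co_smul, H.co_smul, H.co_ne hcd, H.co_ne hct, hzero mc.2, hAc]
    ring
  have c1d : H.co d X₁ = Ad := by
    rw [hX₁, hy_co, d₁, e₁, hx₁, H.co_sub, H.co_smul, H.co_smul, H.co_ne hcd.symm, H.co_ne hds, hzero md.2, hAd]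
    ring
  have c2d : H.co d X₂ = -Ad := by
    rw [hX₂, hy_co, d₂, e₂, hx₂, H.co_sub, H.co_smul, H.co_smul, H.co_self, H.co_ne hdt, hzero md.2, hAd]
    linear_combination (va * H.co d v) * hX.three
  have q₁' : Q X₁ = 2 := by rw [hX₁, O.map_app, q₁]
  have q₂' : Q X₂ = 2 := by rw [hX₂, O.map_app, q₂]
  have h12 : H.dot X₁ X₂ = 0 := by
    rw [hX₁, hX₂, H.dot_app, hx₁, hx₂, H.dot_sub_left, H.dot_sub_right, H.dot_sub_right, dsm hcd, dsm hct,
      dsm hds.symm, dsm hst]
    ring
  have himg : ∀ i, H.co i (((rO Q X₁ * rO Q X₂ : O Q) : V ≃ₗ[F] V) (e c)) =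
      H.co i (e c) + Ac * H.co i X₁ - Ac * H.co i X₂ := by
    intro i
    have hd : H.dot X₁ ((rO Q X₂ : V ≃ₗ[F] V) (e c)) = -Ac := by
      conv_lhs => rw [← H.dot_app (rO Q X₂)]
      rw [rO_fix (H.polar_of_dot (by rw [H.dot_comm, h12])), ← mul_app, ← Subgroup.coe_mul, rO_mul_self]
      exact (dot_e _ _).trans c1c
    rw [Subgroup.coe_mul, mul_app, co_rO q₁' H.two, hd, co_rO q₂' H.two, dot_e, c2c, inv_mul_cancel_left₀ H.two, inv_mul_cancel_left₀ H.two, hAc]
    ring
  refine not_ax hcd ?_ ?_ (hm c)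
  · rw [himg, H.co_self, c1c, c2c]
    intro h
    exact one_ne_zero (α := F) (by linear_combination -h - 2 * qc)
  · rw [himg, H.co_ne hcd.symm, c1d, c2d]
    intro h
    refine mul_ne_zero H.two (mul_ne_zero (a := Ac) (b := Ad) ?_ ?_) (by linear_combination h)
    · intro h0; rw [h0] at qc; exact zero_ne_one (by linear_combination qc)
    · intro h0; rw [h0] at qd; exact zero_ne_one (by linear_combination qd)

/-- A group over the monomial products in which the stabiliser of a line is monomial is monomial. -/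
theorem SixThree.le_mono : X ≤ H.mono := by
  classical
  intro g hg
  by_contra hgm
  set f : Fin 6 → V := fun i => (g : V ≃ₗ[F] V) (e i) with hf
  have hunit : ∀ i, Q (f i) = 1 := fun i => by rw [hf, O.map_app, H.val]
  have hcard : ∀ i, (sup H (f i)).card = 4 := fun i => (hX.sup_card (hunit i)).resolve_left fun h1 => by
    obtain ⟨j, hj⟩ := Finset.card_eq_one.1 h1
    refine hgm (hX.axis hg (a := i) (H.ax_of_co (j := j) fun k hk => not_not.1 (mem_sup.not.1 ?_)))
    rw [hj, Finset.mem_singleton]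
    exact hk
  have hsame : ∀ i, sup H (f i) = sup H (f 0) := by
    intro i
    by_contra hne
    have hi : i ≠ 0 := fun h => hne (by rw [h])
    refine hX.cross (hunit i) (hunit 0) (by rw [hf, H.dot_app]; exact H.co_ne hi) (hcard i) (hcard 0) hne ?_
    have hp := hX.pairs (e i) (e 0) (by rw [H.val]; exact H.c0) (by rw [H.val, H.val])
      (ONB.IsDiag.mono H (H.isDiag_pair hi))
    have := X.mul_mem (X.mul_mem hg hp) (X.inv_mem hg)
    rwa [show g * (rO Q (e i) * rO Q (e 0)) * g⁻¹ = g * rO Q (e i) * g⁻¹ * (g * rO Q (e 0) * g⁻¹) by group,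
      conj_rO, conj_rO] at this
  have h := H.card_le_of_orth (S := (Finset.univ : Finset (Fin 6))) (f := f) (T := sup H (f 0))
    (fun i _ => by rw [hunit]; exact one_ne_zero) (fun i _ j _ hij => by rw [hf, H.dot_app]; exact H.co_ne hij)
    fun i _ => H.mem_sub.2 fun k hk => not_not.1 (mem_sup.not.1 (by rw [hsame i]; exact hk))
  rw [hcard 0] at h
  simp at h

end Cfsg.Agent.H12.CSix.Four
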