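import Cfsg.Agent.H12.CSix.Four.Five
import Cfsg.Agent.H12.CSix.Four.Three
import Cfsg.Agent.H12.CSix.Gen
import Cfsg.Agent.H69.SLFour.SixMain

/-!
The normaliser of 4∘2^(1+4) is maximal in SU_4(p), p = 3 (mod 4).
-/

set_option autoImplicit false

namespace Cfsg.Agent.H12.CSix.Four

open Matrix Cfsg.Agent.H27.KleinCorr Cfsg.Agent.Orthogonal Cfsg.Agent.H97.Frame
open Cfsg.Agent.H95 Cfsg.Agent.Symplectic Cfsg.Agent.H63.UDec
open Cfsg.Agent.H73.Pauli (sA1 sA2 sB1 sB2)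

variable {F : Type*} [Field F]

/-- The cycle of the last three coordinates. -/
def gC : GL (Fin 4) F :=
  ⟨!![1, 0, 0, 0; 0, 0, 0, 1; 0, 1, 0, 0; 0, 0, 1, 0], !![1, 0, 0, 0; 0, 0, 1, 0; 0, 0, 0, 1; 0, 1, 0, 0],
    by ext a b; fin_cases a <;> fin_cases b <;> simp [Matrix.mul_apply, Fin.sum_univ_four],
    by ext a b; fin_cases a <;> fin_cases b <;> simp [Matrix.mul_apply, Fin.sum_univ_four]⟩

theorem gC_cube : (gC : GL (Fin 4) F) * gC * gC = 1 := by
  refine Units.ext ?_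
  ext a b; fin_cases a <;> fin_cases b <;> simp [gC, Matrix.mul_apply, Matrix.vecMul, dotProduct, Fin.sum_univ_four]

variable [Fintype F] {p : ℕ} (S : U4 F p)

include S in
theorem U4.gC_mem : (gC : GL (Fin 4) F) ∈ G4 F p := by
  refine ⟨?_, MonoidHom.mem_ker.2 (Units.ext ?_)⟩
  · show gC ∈ Cfsg.GU 4 F p
    rw [Unitary.mem_GU_iff, Unitary.preserves_iff_transpose_mul S.hF]
    ext a b
    fin_cases a <;> fin_cases b <;> simp [gC, Matrix.mul_apply, Fin.sum_univ_four, zero_pow S.hp.pos.ne']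
  · rw [Matrix.GeneralLinearGroup.val_det_apply]
    simp [gC, Matrix.det_succ_row_zero, Fin.sum_univ_succ, Fin.succAbove]

theorem U4.gC_mem_NS : (gC : GL (Fin 4) F) ∈ S.NS := by
  have g := S.gens_mem
  have hconj : ∀ k, gC * S.gens k * gC⁻¹ ∈ S.Std := by
    intro k
    have e : ∀ y : GL (Fin 4) F, gC * S.gens k = y * gC → y ∈ S.Std → gC * S.gens k * gC⁻¹ ∈ S.Std :=
      fun y h hy => by rw [h, mul_inv_cancel_right]; exact hy
    fin_cases k
    · refine e (S.gens 2) (Units.ext ?_) (g 2)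
      ext a b; fin_cases a <;> fin_cases b <;>
        simp [gC, U4.gens, gA1, gA2, sA1, sA2, Matrix.mul_apply, Matrix.vecMul, dotProduct, Fin.sum_univ_four]
    · refine e (S.gens 1 * S.gens 3) (Units.ext ?_) (mul_mem (g 1) (g 3))
      ext a b; fin_cases a <;> fin_cases b <;>
        simp [gC, U4.gens, gB1, gB2, sB1, sB2, Matrix.mul_apply, Matrix.vecMul, dotProduct, Fin.sum_univ_four]
    · refine e (S.gens 0 * S.gens 2) (Units.ext ?_) (mul_mem (g 0) (g 2))
      ext a b; fin_cases a <;> fin_cases b <;>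
        simp [gC, U4.gens, gA1, gA2, sA1, sA2, Matrix.mul_apply, Matrix.vecMul, dotProduct, Fin.sum_univ_four]
    · refine e (S.gens 1) (Units.ext ?_) (g 1)
      ext a b; fin_cases a <;> fin_cases b <;>
        simp [gC, U4.gens, gB1, gB2, sB1, sB2, Matrix.mul_apply, Matrix.vecMul, dotProduct, Fin.sum_univ_four]
    · refine e (S.gens 4) (Units.ext ?_) (g 4)
      simp [U4.gens, U4.gI]
  have key : ∀ x ∈ S.Std, gC * x * gC⁻¹ ∈ S.Std := by
    have : S.Std ≤ S.Std.comap (MulAut.conj (gC : GL (Fin 4) F)).toMonoidHom := by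
      conv_lhs => rw [U4.Std]
      rw [Subgroup.closure_le]
      rintro _ ⟨k, rfl⟩
      exact hconj k
    exact fun x hx => this hx
  refine S.mem_NS_of_maps key fun x hx => ?_
  have h2 : (gC : GL (Fin 4) F)⁻¹ = gC * gC := inv_eq_of_mul_eq_one_left gC_cube
  have := key _ (key x hx)
  rwa [show gC * (gC * x * gC⁻¹) * gC⁻¹ = (gC * gC : GL (Fin 4) F) * x * (gC * gC)⁻¹ by group, ← h2, inv_inv] at this

theorem U4.Std_le_NS : S.Std ≤ S.NS := Subgroup.le_normalizer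

omit [Fintype F] in
/-- The matrix of a transvection supported on the first two coordinates fixes the first vector. -/
theorem fix_E0 {σ : F ≃+* F} (g : Matrix (Fin 4) (Fin 4) F) (v : Fin 4 → F) (l : F)
    (hg : ∀ i j, g i j = (if i = j then 1 else 0) + l * σ (v j) * v i)
    (h2 : v 2 = 0) (h3 : v 3 = 0) (hn : v 0 * σ (v 0) + v 1 * σ (v 1) = 0) :
    g * E0 * gᵀ = E0 := by
  ext a b
  simp only [Matrix.mul_apply, Fin.sum_univ_four, Matrix.transpose_apply, hg]
  fin_cases a <;> fin_cases b <;> simp [E0, h2, h3] <;> grind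

theorem U4.mem_of_fix {M : Subgroup (GL (Fin 4) F)}
    (htop : M.comap S.η ⊓ Cfsg.spGL 2 S.K = Cfsg.spGL 2 S.K) {g : GL (Fin 4) F} (hg : g ∈ Cfsg.GU 4 F p)
    (hE : (g : Matrix (Fin 4) (Fin 4) F) * E0 * (g : Matrix (Fin 4) (Fin 4) F)ᵀ = E0) : g ∈ M := by
  obtain ⟨N, hN, rfl⟩ := S.exists_η hg hE
  rw [← htop] at hN
  exact hN.1

include S in
theorem U4.three_le : 3 ≤ p := by
  have := S.hp4
  omega

/-- All of the stabiliser of the first vector and the standard monomial moves give everything. -/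
theorem U4.le_of_stab {M : Subgroup (GL (Fin 4) F)} (hM : M ≤ G4 F p) (hbase : S.NS ⊓ G4 F p ≤ M)
    (htop : M.comap S.η ⊓ Cfsg.spGL 2 S.K = Cfsg.spGL 2 S.K) : G4 F p ≤ M := by
  obtain ⟨σ, hσ, hf⟩ := isUnitaryForm_hermForm (n := 4) S.hF
  have hP : Pair hf M 0 1 := by
    intro v hv hvv l hl
    refine S.mem_of_fix htop (ut_mem_iso hf hvv hl) (fix_E0 (σ := σ) _ v l (fun i j => ?_)
      (hv 2 (by decide) (by decide)) (hv 3 (by decide) (by decide)) ?_)
    · have := congrFun (ut_mulVec hf hvv l (Pi.single j 1)) i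
      rw [Matrix.mulVec_single_one] at this
      simp only [Matrix.col_apply, Pi.add_apply, Pi.smul_apply, smul_eq_mul] at this
      rw [this, herm_sum hσ, Finset.sum_eq_single j (fun k _ hk => by simp [Pi.single_eq_of_ne hk]) (by simp),
        Pi.single_eq_same, one_mul]
      simp [Pi.single_apply]
    · rw [← hvv, herm_sum hσ, Fin.sum_univ_four, hv 2 (by decide) (by decide), hv 3 (by decide) (by decide)]
      simp
  let Mv : (Fin 4 → Fin 4) → Prop := fun f => ∃ g ∈ M, ∀ j : Fin 4,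
    (g : Matrix (Fin 4) (Fin 4) F) *ᵥ Pi.single j 1 = (Pi.single (f j) 1 : Fin 4 → F)
  have hmul : ∀ {f h}, Mv f → Mv h → Mv (f ∘ h) := fun ⟨g, hg, hg'⟩ ⟨k, hk, hk'⟩ =>
    ⟨g * k, M.mul_mem hg hk, fun j => by
      rw [Units.val_mul, ← Matrix.mulVec_mulVec, hk', hg', Function.comp_apply]⟩
  have hA1 : Mv ![1, 0, 3, 2] := ⟨gA1, hbase ⟨S.Std_le_NS (S.gens_mem 0), S.std_le (S.gens_mem 0)⟩,
    fun j => by
      funext i; fin_cases j <;> fin_cases i <;> simp [gA1, sA1]⟩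
  have hA2 : Mv ![2, 3, 0, 1] := ⟨gA2, hbase ⟨S.Std_le_NS (S.gens_mem 2), S.std_le (S.gens_mem 2)⟩,
    fun j => by
      funext i; fin_cases j <;> fin_cases i <;> simp [gA2, sA2]⟩
  have hC : Mv ![0, 2, 3, 1] := ⟨gC, hbase ⟨S.gC_mem_NS, S.gC_mem⟩, fun j => by
    funext i; fin_cases j <;> fin_cases i <;> simp [gC]⟩
  have hid : Mv id := ⟨1, M.one_mem, fun j => by rw [Units.val_one, Matrix.one_mulVec]; rfl⟩
  let T : Fin 4 → Fin 4 → Fin 4 := ![id, ![1, 0, 3, 2], ![2, 3, 0, 1], ![1, 0, 3, 2] ∘ ![2, 3, 0, 1]]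
  let C : Fin 3 → Fin 4 → Fin 4 := ![id, ![0, 2, 3, 1], ![0, 2, 3, 1] ∘ ![0, 2, 3, 1]]
  have hT : ∀ x, Mv (T x) := Fin.cases hid (Fin.cases hA1 (Fin.cases hA2 (Fin.cases (show Mv (![1, 0, 3, 2] ∘ ![2, 3, 0, 1]) from hmul hA1 hA2) finZeroElim)))
  have hCk : ∀ k, Mv (C k) := Fin.cases hid (Fin.cases hC (Fin.cases (show Mv (![0, 2, 3, 1] ∘ ![0, 2, 3, 1]) from hmul hC hC) finZeroElim))
  refine su_le_of_pair S.hF S.three_le le_rfl hσ (fun g hg => (hM hg).1) hP fun a b hab => ?_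
  obtain ⟨x, k, ha, hb⟩ : ∃ x k, T x (C k 0) = a ∧ T x (C k 1) = b := by
    revert hab; revert a b; decide +kernel
  obtain ⟨g, hg, hg'⟩ := hmul (hT x) (hCk k)
  refine ⟨g, hg, 1, 1, one_ne_zero, one_ne_zero, ?_, ?_⟩
  · rw [hg', one_smul, Function.comp_apply, ha]
  · rw [hg', one_smul, Function.comp_apply, hb]

/-- An overgroup of the normaliser of the standard group normalises it or is everything. -/
theorem U4.core {M : Subgroup (GL (Fin 4) F)} (hM : M ≤ G4 F p) (hbase : S.NS ⊓ G4 F p ≤ M) :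
    M ≤ S.NS ∨ M = G4 F p := by
  classical
  rcases (H57.Frame5.maximal S.hp S.card_K S.five).2 (M.comap S.η ⊓ Cfsg.spGL 2 S.K)
    (le_inf (fun N hN => hbase ⟨S.η_mem_NS hN.2 hN.1, (S.η_mem hN.2).1⟩) inf_le_right) inf_le_right with h | h
  · left
    set X := (M.subgroupOf (G4 F p)).map S.ρ with hX
    have hpairs : ∀ a b, S.Q a ≠ 0 → S.Q b = S.Q a → rO S.Q a * rO S.Q b ∈ S.onb.mono →
        rO S.Q a * rO S.Q b ∈ X := by
      intro a b ha hab hm
      obtain ⟨g, hg⟩ := S.pair_mem_range ha hab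
      exact ⟨g, hbase ⟨S.normalizes_of_mono (hg ▸ hm), g.2⟩, hg⟩
    have hfix : ∀ g ∈ X, (g : S.V ≃ₗ[S.K] S.V) (S.e 0) = S.e 0 → g ∈ S.onb.mono := by
      rintro _ ⟨m, hm, rfl⟩ hm0
      obtain ⟨N, hN, hNm⟩ := S.exists_η m.2.1 ((S.fix_iff m).1 hm0)
      have hN' : N ∈ M.comap S.η ⊓ Cfsg.spGL 2 S.K := ⟨show S.η N ∈ M by rw [hNm]; exact hm, hN⟩
      rw [h] at hN'
      exact S.mono_of_normalizes (hNm ▸ S.η_mem_NS hN hN'.1)
    have hle : X ≤ S.onb.mono := by
      by_cases h3 : (3 : S.K) = 0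
      · have hK3 : Fintype.card S.K = 3 := by
          haveI := Fact.mk S.hp
          haveI : CharP S.K p := charP_of_card_eq_prime S.card_K
          rw [S.card_K]
          have : ((3 : ℕ) : S.K) = 0 := by exact_mod_cast h3
          rw [CharP.cast_eq_zero_iff S.K p] at this
          exact (Nat.prime_dvd_prime_iff_eq S.hp Nat.prime_three).1 this
        refine SixThree.le_mono (H := S.onb) (X := X) ⟨h3, fun x => ?_, hpairs, hfix⟩
        rcases eq_or_ne x 0 with hx | hx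
        · exact Or.inl hx
        · refine Or.inr ?_
          have := FiniteField.pow_card_sub_one_eq_one x hx
          rw [hK3] at this
          rw [← pow_two]
          exact this
      · haveI : Finite (O S.Q) := Finite.of_injective (fun g : O S.Q => ⇑(g : S.V ≃ₗ[S.K] S.V))
          fun a b e => Subtype.ext (LinearEquiv.ext (congrFun e))
        exact H69.SLFour.SixFrame.Six.le_mono (H := S.onb) (X := X) ⟨h3, hpairs, hfix⟩
    intro g hg
    exact S.normalizes_of_mono (g := ⟨g, hM hg⟩) (hle ⟨⟨g, hM hg⟩, hg, rfl⟩)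
  · exact Or.inr (le_antisymm hM (S.le_of_stab hM hbase h))

/-- The normaliser is proper. -/
theorem U4.exists_not_NS : ∃ g ∈ G4 F p, g ∉ S.NS := by
  classical
  obtain ⟨N, hN, hN'⟩ := SetLike.exists_of_lt (H57.Frame5.maximal S.hp S.card_K S.five).1
  refine ⟨S.η N, (S.η_mem hN).1, fun h => hN' ⟨?_, hN⟩⟩
  have key : ∀ L ∈ Cfsg.spGL 2 S.K, S.η L ∈ S.NS → ∀ y ∈ S.R5, L * y * L⁻¹ ∈ S.R5 := by
    intro L hL hLN y hy
    suffices hle : S.R5 ≤ S.R5.comap (MulAut.conj L).toMonoidHom from hle hy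
    conv_lhs => rw [U4.R5]
    rw [Subgroup.closure_le]
    rintro _ ⟨a, rfl⟩
    show L * S.x a * L⁻¹ ∈ S.R5
    have hz : L * S.x a * L⁻¹ ∈ Cfsg.spGL 2 S.K := mul_mem (mul_mem hL (S.x_sp a)) (inv_mem hL)
    have hstd : S.η (L * S.x a * L⁻¹) ∈ S.Std := by
      rw [map_mul, map_mul, map_inv, S.η_x]
      exact (Subgroup.mem_normalizer_iff.1 hLN _).1 (S.xs_mem a)
    have h5 := S.mem_five_of_fix (r := ⟨_, S.std_le hstd⟩) hstd ((S.fix_iff _).2 (S.η_mem hz).2)
    rw [show Set.range S.xs = S.η '' Set.range S.x by rw [← Set.range_comp]; exact congrArg Set.range (funext fun a => (S.η_x a).symm),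
      ← MonoidHom.map_closure] at h5
    obtain ⟨w, hw, hwe⟩ := Subgroup.mem_map.1 h5
    rw [← S.η_injective hwe]
    exact hw
  refine Subgroup.mem_normalizer_iff.2 fun y => ⟨key N hN h y, fun hy => ?_⟩
  have := key N⁻¹ (inv_mem hN) (by rw [map_inv]; exact S.NS.inv_mem h) _ hy
  rwa [inv_inv, show N⁻¹ * (N * y * N⁻¹) * N = y by group] at this

/-- The normaliser is maximal. -/
theorem U4.maximal : Cfsg.Geo.IsMaximalIn (G4 F p) (S.NS ⊓ G4 F p) := by
  refine ⟨lt_of_le_of_ne inf_le_right fun e => ?_, fun M hb hM => ?_⟩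
  · obtain ⟨g, hg, hg'⟩ := S.exists_not_NS
    exact hg' (e.ge hg).1
  · rcases S.core hM hb with h | h
    · exact Or.inl (le_antisymm (le_inf h hM) hb)
    · exact Or.inr h

end Cfsg.Agent.H12.CSix.Four
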