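import Cfsg.Agent.H12.CSix.Four.Stab

/-!
Normalising the standard group means permuting the six lines, and the five involutions fixing the first vector.
-/

set_option autoImplicit false

namespace Cfsg.Agent.H12.CSix.Four

open Matrix Cfsg.Agent.H27.KleinCorr Cfsg.Agent.Orthogonal Cfsg.Agent.H97.Frame
open Cfsg.Agent.H73.Pauli (sA1 sA2 sB1 sB2)

variable {F : Type*} [Field F] [Fintype F] {p : ℕ} (S : U4 F p)

/-- The normaliser of the standard group. -/
def U4.NS : Subgroup (GL (Fin 4) F) := Cfsg.Geo.subgroupNormalizer S.Std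

theorem U4.mem_NS_of_maps {g : GL (Fin 4) F} (h : ∀ x ∈ S.Std, g * x * g⁻¹ ∈ S.Std)
    (h' : ∀ x ∈ S.Std, g⁻¹ * x * g ∈ S.Std) : g ∈ S.NS := by
  refine Subgroup.mem_normalizer_iff.2 fun x => ⟨h x, fun hx => ?_⟩
  have := h' _ hx
  rwa [show g⁻¹ * (g * x * g⁻¹) * g = x by group] at this

/-- Conjugating a sign change by a monomial isometry gives a sign change. -/
theorem diag_conj {K V : Type*} [Field K] [AddCommGroup V] [Module K V] {Q : QuadraticForm K V} {e : Fin 6 → V}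
    {c : K} (H : ONB Q e c) {g d : O Q} (hg : g ∈ H.mono) {B : Finset (Fin 6)} (hd : H.IsDiag d B) :
    ∃ C, H.IsDiag (g * d * g⁻¹) C := by
  classical
  obtain ⟨σ, hσ⟩ := ONB.IsMono.exists_perm H hg
  refine ⟨B.map σ.toEmbedding, fun j => ?_⟩
  obtain ⟨i, rfl⟩ := σ.surjective j
  have hmem : σ i ∈ B.map σ.toEmbedding ↔ i ∈ B := by simp
  rcases hσ i with h | h
  · have key : ((g * d * g⁻¹ : O Q) : V ≃ₗ[K] V) ((g : V ≃ₗ[K] V) (e i)) =
        (g : V ≃ₗ[K] V) ((d : V ≃ₗ[K] V) (e i)) := by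
      rw [← mul_app, ← Subgroup.coe_mul, inv_mul_cancel_right, Subgroup.coe_mul, mul_app]
    rw [h, hd i] at key
    rw [key]
    split_ifs with h1 h2 h2 <;> simp_all
  · have key : ((g * d * g⁻¹ : O Q) : V ≃ₗ[K] V) ((g : V ≃ₗ[K] V) (e i)) =
        (g : V ≃ₗ[K] V) ((d : V ≃ₗ[K] V) (e i)) := by
      rw [← mul_app, ← Subgroup.coe_mul, inv_mul_cancel_right, Subgroup.coe_mul, mul_app]
    rw [h, hd i, map_neg, neg_eq_iff_eq_neg] at key
    rw [key]
    split_ifs with h1 h2 h2 <;> simp_all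

/-- An element permuting the lines normalises the standard group. -/
theorem U4.normalizes_of_mono {g : G4 F p} (h : S.ρ g ∈ S.onb.mono) : (g : GL (Fin 4) F) ∈ S.NS := by
  have key : ∀ y : G4 F p, S.ρ y ∈ S.onb.mono → ∀ x ∈ S.Std,
      (y : GL (Fin 4) F) * x * (y : GL (Fin 4) F)⁻¹ ∈ S.Std := by
    intro y hy x hx
    obtain ⟨B, hB⟩ := S.diag_of_std (g := ⟨x, S.std_le hx⟩) hx
    obtain ⟨C, hC⟩ := diag_conj S.onb hy hB
    exact S.mem_std_of_diag (g := y * ⟨x, S.std_le hx⟩ * y⁻¹) (by rw [map_mul, map_mul, map_inv]; exact hC)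
  refine S.mem_NS_of_maps (key g h) fun x hx => ?_
  have := key g⁻¹ (by rw [map_inv]; exact S.onb.mono.inv_mem h) x hx
  rwa [Subgroup.coe_inv, inv_inv] at this

/-- An element normalising the standard group permutes the lines. -/
theorem U4.mono_of_normalizes {g : G4 F p} (h : (g : GL (Fin 4) F) ∈ S.NS) : S.ρ g ∈ S.onb.mono := by
  classical
  set H := S.onb
  intro i
  obtain ⟨j, k, hji, hki, hjk⟩ : ∃ j k : Fin 6, j ≠ i ∧ k ≠ i ∧ j ≠ k :=
    (by decide +kernel : ∀ i : Fin 6, ∃ j k : Fin 6, j ≠ i ∧ k ≠ i ∧ j ≠ k) i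
  have key : ∀ l, l ≠ i → ∃ C : Finset (Fin 6), C.card = 2 ∧
      (S.ρ g : S.V ≃ₗ[S.K] S.V) (S.e i) ∈ H.sub C ∧
      H.IsDiag (S.ρ g * (rO S.Q (S.e i) * rO S.Q (S.e l)) * (S.ρ g)⁻¹) C := by
    intro l hl
    have hd := H.isDiag_pair (Ne.symm hl)
    obtain ⟨r, hr, hrd⟩ := S.exists_lift {i, l} (by rw [Finset.card_pair (Ne.symm hl)]; exact even_two)
    have hreq := ONB.IsDiag.unique H hrd hd
    have hmem : ((g * r * g⁻¹ : G4 F p) : GL (Fin 4) F) ∈ S.Std := (Subgroup.mem_normalizer_iff.1 h _).1 hr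
    obtain ⟨C, hC⟩ := S.diag_of_std hmem
    rw [map_mul, map_mul, map_inv, hreq] at hC
    exact ⟨C, (H.diag_card hd hC rfl).symm.trans (Finset.card_pair (Ne.symm hl)),
      (H.diag_maps hd hC rfl).1 (by simp), hC⟩
  obtain ⟨C, hCc, hCs, hC⟩ := key j hji
  obtain ⟨C', hC'c, hC's, hC'⟩ := key k hki
  have hne : C ≠ C' := by
    intro e
    subst e
    have e1 := ONB.IsDiag.unique H hC hC'
    have e2 := congrArg (fun x : O S.Q => ((x : O S.Q) : S.V ≃ₗ[S.K] S.V) (S.e j))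
      (mul_left_cancel (mul_right_cancel e1))
    beta_reduce at e2
    rw [H.isDiag_pair (Ne.symm hji) j, H.isDiag_pair (Ne.symm hki) j, if_pos (by simp),
      if_neg (by simp [hji, hjk])] at e2
    have := congrArg (H.co j) e2
    rw [H.co_neg, H.co_self] at this
    exact S.two_K (by linear_combination -this)
  have hle : (C ∩ C').card ≤ 1 := by
    by_contra hcon
    have e1 := Finset.eq_of_subset_of_card_le (Finset.inter_subset_left : C ∩ C' ⊆ C) (by omega)
    have e2 := Finset.eq_of_subset_of_card_le (Finset.inter_subset_right : C ∩ C' ⊆ C') (by omega)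
    exact hne (e1.symm.trans e2)
  rcases (C ∩ C').eq_empty_or_nonempty with h0 | ⟨m, hm⟩
  · refine H.ax_of_co (j := i) fun l _ => ?_
    by_contra hl
    have h1 : l ∈ C := by_contra fun e => hl (hCs l e)
    have h2 : l ∈ C' := by_contra fun e => hl (hC's l e)
    exact (Finset.notMem_empty l) (h0 ▸ Finset.mem_inter.2 ⟨h1, h2⟩)
  · refine H.ax_of_co (j := m) fun l hl => ?_
    by_contra h'
    have h1 : l ∈ C := by_contra fun e => h' (hCs l e)
    have h2 : l ∈ C' := by_contra fun e => h' (hC's l e)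
    exact hl (Finset.card_le_one.1 hle l (Finset.mem_inter.2 ⟨h1, h2⟩) m hm)

/-- The first vector is fixed exactly by the elements preserving its matrix. -/
theorem U4.fix_iff (g : G4 F p) : (S.ρ g : S.V ≃ₗ[S.K] S.V) (S.e 0) = S.e 0 ↔
    ((g : GL (Fin 4) F) : Matrix (Fin 4) (Fin 4) F) * E0 * ((g : GL (Fin 4) F) : Matrix (Fin 4) (Fin 4) F)ᵀ = E0 := by
  rw [← (H27.RankSixMinus.E_injective S.D).eq_iff, S.E_ρ, S.E_e, klein_apply]
  constructor
  · intro h
    have := congrArg alt h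
    rwa [alt_co, alt_cvec_zero] at this
  · intro h
    rw [alt_cvec_zero, h, ← alt_cvec_zero S.i, co_alt]

/-- Five anticommuting involutions fixing the first vector. -/
def U4.xs (a : Fin 5) : GL (Fin 4) F :=
  ![gB2, gA2, S.gI * gB1 * gA2 * gB2, S.gI * gA1 * gA2 * gB2, gA1 * gB1 * gA2 * gB2] a

theorem U4.xs_mem (a : Fin 5) : S.xs a ∈ S.Std := by
  have h := S.gens_mem
  fin_cases a
  exacts [h 3, h 2, mul_mem (mul_mem (mul_mem (h 4) (h 1)) (h 2)) (h 3),
    mul_mem (mul_mem (mul_mem (h 4) (h 0)) (h 2)) (h 3), mul_mem (mul_mem (mul_mem (h 0) (h 1)) (h 2)) (h 3)]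

/-- The five involutions inside the determinant-one group. -/
def U4.xG (a : Fin 5) : G4 F p := ⟨S.xs a, S.std_le (S.xs_mem a)⟩

theorem U4.xs_sq (a : Fin 5) : S.xs a * S.xs a = 1 := by
  refine Units.ext ?_
  fin_cases a <;> ext u v <;> fin_cases u <;> fin_cases v <;>
    simp [U4.xs, gA1, gA2, gB1, gB2, U4.gI, sA1, sA2, sB1, sB2, Matrix.mul_apply, Matrix.vecMul, dotProduct,
      Fin.sum_univ_four, S.hi]

theorem U4.xs_anti {a b : Fin 5} (h : a ≠ b) : S.xs a * S.xs b = -(S.xs b * S.xs a) := by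
  refine Units.ext ?_
  fin_cases a <;> fin_cases b <;> first
    | exact absurd rfl h
    | (ext u v; fin_cases u <;> fin_cases v <;>
        simp [U4.xs, gA1, gA2, gB1, gB2, U4.gI, sA1, sA2, sB1, sB2, Matrix.mul_apply, Matrix.vecMul, dotProduct,
          Fin.sum_univ_four, S.hi])

/-- Their signs. -/
def xbsets : Fin 5 → Finset (Fin 6) := ![{2, 3, 4, 5}, {1, 2, 3, 4}, {1, 2, 3, 5}, {1, 3, 4, 5}, {1, 2, 4, 5}]

theorem U4.diag_xs (a : Fin 5) : S.onb.IsDiag (S.ρ (S.xG a)) (xbsets a) := by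
  have d := S.diag_gens
  have e2 : S.xG 2 = S.genG 4 * S.genG 1 * S.genG 2 * S.genG 3 := rfl
  have e3 : S.xG 3 = S.genG 4 * S.genG 0 * S.genG 2 * S.genG 3 := rfl
  have e4 : S.xG 4 = S.genG 0 * S.genG 1 * S.genG 2 * S.genG 3 := rfl
  fin_cases a
  · exact d 3
  · exact d 2
  all_goals
    simp only [Fin.reduceFinMk, e2, e3, e4, map_mul]
  · convert ONB.IsDiag.mul S.onb (ONB.IsDiag.mul S.onb (ONB.IsDiag.mul S.onb (d 4) (d 1)) (d 2)) (d 3) using 1
    decide +kernel
  · convert ONB.IsDiag.mul S.onb (ONB.IsDiag.mul S.onb (ONB.IsDiag.mul S.onb (d 4) (d 0)) (d 2)) (d 3) using 1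
    decide +kernel
  · convert ONB.IsDiag.mul S.onb (ONB.IsDiag.mul S.onb (ONB.IsDiag.mul S.onb (d 0) (d 1)) (d 2)) (d 3) using 1
    decide +kernel

theorem U4.xs_fix (a : Fin 5) :
    (S.xs a : Matrix (Fin 4) (Fin 4) F) * E0 * (S.xs a : Matrix (Fin 4) (Fin 4) F)ᵀ = E0 := by
  refine (S.fix_iff (S.xG a)).1 ?_
  rw [S.diag_xs a 0, if_neg]
  revert a
  decide +kernel

theorem U4.exists_x (a : Fin 5) : ∃ M ∈ Cfsg.spGL 2 S.K, S.η M = S.xs a :=
  S.exists_η (S.std_le (S.xs_mem a)).1 (S.xs_fix a)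

/-- The five involutions over the prime field. -/
noncomputable def U4.x (a : Fin 5) : GL (Fin 2 ⊕ Fin 2) S.K := (S.exists_x a).choose

theorem U4.x_sp (a : Fin 5) : S.x a ∈ Cfsg.spGL 2 S.K := (S.exists_x a).choose_spec.1

theorem U4.η_x (a : Fin 5) : S.η (S.x a) = S.xs a := (S.exists_x a).choose_spec.2

theorem U4.η_neg (M : GL (Fin 2 ⊕ Fin 2) S.K) : S.η (-M) = -S.η M := by
  have h : S.lift (-M) = -S.lift M := by
    refine Units.ext (Matrix.ext fun u v => ?_)
    simp [U4.val_lift, Units.val_neg]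
  rw [S.η_apply, S.η_apply, h, mul_neg, neg_mul]

/-- The subgroup they generate. -/
noncomputable def U4.R5 : Subgroup (GL (Fin 2 ⊕ Fin 2) S.K) := Subgroup.closure (Set.range S.x)

theorem U4.five : H57.Frame5.Five S.R5 S.x where
  two := S.two_K
  mem a := Subgroup.subset_closure ⟨a, rfl⟩
  sp := S.x_sp
  sq a := S.η_injective (by rw [map_mul, S.η_x, S.xs_sq, map_one])
  anti a b h := S.η_injective (by rw [S.η_neg, map_mul, map_mul, S.η_x, S.η_x, S.xs_anti h])
  gen := rfl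
  scalar A hA := by
    set L : Matrix (Fin 4) (Fin 4) F := (A.map S.D.emb).submatrix idx.symm idx.symm with hL
    set P := (S.PG : Matrix (Fin 4) (Fin 4) F)
    set P' := ((S.PG⁻¹ : GL (Fin 4) F) : Matrix (Fin 4) (Fin 4) F)
    have hPP : P' * P = 1 := by rw [← Units.val_mul, inv_mul_cancel]; rfl
    have hPP' : P * P' = 1 := by rw [← Units.val_mul, mul_inv_cancel]; rfl
    set W := P * L * P' with hW
    have hcomm : ∀ a, Commute W (S.xs a : Matrix (Fin 4) (Fin 4) F) := by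
      intro a
      have hx : (S.xs a : Matrix (Fin 4) (Fin 4) F) =
          P * (S.lift (S.x a) : Matrix (Fin 4) (Fin 4) F) * P' := by
        rw [← S.η_x a, S.η_apply, Units.val_mul, Units.val_mul]
      have hl : L * (S.lift (S.x a) : Matrix (Fin 4) (Fin 4) F) =
          (S.lift (S.x a) : Matrix (Fin 4) (Fin 4) F) * L := by
        rw [hL, U4.val_lift, Matrix.submatrix_mul_equiv, Matrix.submatrix_mul_equiv, ← Matrix.map_mul,
          ← Matrix.map_mul, hA a]
      show W * _ = _ * W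
      rw [hx, hW]
      calc P * L * P' * (P * (S.lift (S.x a) : Matrix (Fin 4) (Fin 4) F) * P')
          = P * (L * (P' * P) * (S.lift (S.x a) : Matrix (Fin 4) (Fin 4) F)) * P' := by simp only [mul_assoc]
        _ = P * ((S.lift (S.x a) : Matrix (Fin 4) (Fin 4) F) * (P' * P) * L) * P' := by
          rw [hPP, mul_one, mul_one, hl]
        _ = _ := by simp only [mul_assoc]
    have hb2 : W * sB2 = sB2 * W := hcomm 0
    have ha2 : W * sA2 = sA2 * W := hcomm 1
    have cut : ∀ (k : Fin 5) (g : Matrix (Fin 4) (Fin 4) F),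
        (S.xs k : Matrix (Fin 4) (Fin 4) F) * sB2 * sA2 = S.i • g → W * g = g * W := by
      intro k g hg
      have h := ((hcomm k).mul_right (show Commute W sB2 from hb2)).mul_right (show Commute W sA2 from ha2)
      rw [hg] at h
      have h' : W * (S.i • g) = (S.i • g) * W := h
      rw [Matrix.mul_smul, Matrix.smul_mul] at h'
      exact smul_right_injective _ S.i_ne_zero h'
    have hb1 : W * sB1 = sB1 * W := cut 2 sB1 (by
      ext u v; fin_cases u <;> fin_cases v <;>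
        simp [U4.xs, gA2, gB1, gB2, U4.gI, sA2, sB1, sB2, Matrix.mul_apply, Matrix.vecMul, dotProduct, Fin.sum_univ_four])
    have ha1 : W * sA1 = sA1 * W := cut 3 sA1 (by
      ext u v; fin_cases u <;> fin_cases v <;>
        simp [U4.xs, gA1, gA2, gB2, U4.gI, sA1, sA2, sB2, Matrix.mul_apply, Matrix.vecMul, dotProduct, Fin.sum_univ_four])
    have hWs := H73.Pauli.std_commutant S.two W ha1 hb1 ha2 hb2
    have hLs : L = W 0 0 • 1 := by
      calc L = P' * W * P := by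
            rw [hW]; simp only [← mul_assoc, hPP, one_mul]; rw [mul_assoc, hPP, mul_one]
        _ = _ := by
          conv_lhs => rw [hWs]
          rw [Matrix.mul_smul, mul_one, Matrix.smul_mul, hPP]
    refine ⟨A (Sum.inl 0) (Sum.inl 0), Matrix.ext fun u v => S.D.emb.injective ?_⟩
    have e0 := congrFun (congrFun hLs (idx (Sum.inl 0))) (idx (Sum.inl 0))
    have e := congrFun (congrFun hLs (idx u)) (idx v)
    simp only [hL, Matrix.submatrix_apply, Matrix.map_apply, Equiv.symm_apply_apply, Matrix.smul_apply,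
      smul_eq_mul, Matrix.one_apply, if_true, mul_one] at e0 e
    rw [e, Matrix.smul_apply, smul_eq_mul, map_mul, e0, Matrix.one_apply]
    by_cases huv : u = v
    · subst huv; simp
    · simp [huv, idx.injective.ne huv]

/-- Sign changes fixing the first vector come from the five involutions. -/
theorem U4.mem_five_of_fix {r : G4 F p} (hr : (r : GL (Fin 4) F) ∈ S.Std)
    (hfix : (S.ρ r : S.V ≃ₗ[S.K] S.V) (S.e 0) = S.e 0) :
    (r : GL (Fin 4) F) ∈ Subgroup.closure (Set.range S.xs) := by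
  classical
  obtain ⟨B, hB⟩ := S.diag_of_std hr
  have h0 : (0 : Fin 6) ∉ B := fun h => by
    have := (hB 0).symm.trans hfix
    rw [if_pos h] at this
    have h' := congrArg (S.onb.co 0) this
    rw [S.onb.co_neg, S.onb.co_self] at h'
    exact S.two_K (by linear_combination -h')
  set R4 := Subgroup.closure (Set.range S.xs)
  have hR4 : R4 ≤ S.Std := by
    rw [Subgroup.closure_le]
    rintro _ ⟨a, rfl⟩
    exact S.xs_mem a
  let T : Finset (Fin 6) → Prop := fun B => ∃ x : G4 F p, (x : GL (Fin 4) F) ∈ R4 ∧ S.onb.IsDiag (S.ρ x) B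
  have hmul : ∀ {A C}, T A → T C → T (symmDiff A C) := fun ⟨a, ha, ha'⟩ ⟨c, hc, hc'⟩ =>
    ⟨a * c, R4.mul_mem ha hc, by rw [map_mul]; exact ONB.IsDiag.mul S.onb ha' hc'⟩
  have hg : ∀ (f : Fin 5 → Bool) k, T (bif f k then xbsets k else ∅) := fun f k => by
    cases f k
    exacts [⟨1, R4.one_mem, fun i => by simp⟩, ⟨S.xG k, Subgroup.subset_closure ⟨k, rfl⟩, S.diag_xs k⟩]
  have hev : Even B.card := by
    obtain ⟨x, hx, hxd⟩ : ∃ x : G4 F p, (x : GL (Fin 4) F) ∈ S.Std ∧ S.onb.IsDiag (S.ρ x) B := ⟨r, hr, hB⟩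
    suffices key : ∀ y ∈ S.Std, ∃ (h : y ∈ G4 F p) (C : Finset (Fin 6)), Even C.card ∧ S.onb.IsDiag (S.ρ ⟨y, h⟩) C by
      obtain ⟨_, C, hC, hCd⟩ := key _ hx
      have hBC : B = C := Finset.ext fun i => by
        have e := (hxd i).symm.trans (hCd i)
        have hne : S.e i ≠ -S.e i := fun e' => by
          have h' := congrArg (S.onb.co i) e'
          rw [S.onb.co_neg, S.onb.co_self] at h'
          exact S.two_K (by linear_combination h')
        by_cases h1 : i ∈ B <;> by_cases h2 : i ∈ C <;> simp [h1, h2, hne, Ne.symm hne] at e ⊢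
      exact hBC ▸ hC
    intro y hy
    induction hy using Subgroup.closure_induction with
    | mem y hy =>
      obtain ⟨k, rfl⟩ := hy
      exact ⟨_, bsets k, (by decide +kernel : ∀ k : Fin 5, Even (bsets k).card) k, S.diag_gens k⟩
    | one => exact ⟨one_mem _, ∅, Even.zero, fun l => by
        rw [show (⟨1, one_mem _⟩ : G4 F p) = 1 from rfl, map_one, if_neg (Finset.notMem_empty l)]; rfl⟩
    | mul a b _ _ ha hb =>
      obtain ⟨ha, A, hAe, hA⟩ := ha
      obtain ⟨hb, C, hCe, hC⟩ := hb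
      refine ⟨mul_mem ha hb, symmDiff A C,
        (by decide +kernel : ∀ A C : Finset (Fin 6), Even A.card → Even C.card → Even (symmDiff A C).card) A C hAe hCe,
        ?_⟩
      rw [show (⟨a * b, mul_mem ha hb⟩ : G4 F p) = ⟨a, ha⟩ * ⟨b, hb⟩ from rfl, map_mul]
      exact ONB.IsDiag.mul S.onb hA hC
    | inv a _ ha =>
      obtain ⟨ha, A, hAe, hA⟩ := ha
      refine ⟨inv_mem ha, A, hAe, ?_⟩
      rw [show (⟨a⁻¹, inv_mem ha⟩ : G4 F p) = (⟨a, ha⟩ : G4 F p)⁻¹ from rfl, map_inv,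
        inv_eq_of_mul_eq_one_right (ONB.IsDiag.sq S.onb hA)]
      exact hA
  obtain ⟨f, rfl⟩ := (by decide +kernel : ∀ B : Finset (Fin 6), Even B.card → (0 : Fin 6) ∉ B → ∃ f : Fin 5 → Bool,
      symmDiff (symmDiff (symmDiff (symmDiff
      (bif f 0 then xbsets 0 else ∅) (bif f 1 then xbsets 1 else ∅)) (bif f 2 then xbsets 2 else ∅))
      (bif f 3 then xbsets 3 else ∅)) (bif f 4 then xbsets 4 else ∅) = B) B hev h0
  obtain ⟨x, hx, hxd⟩ := hmul (hmul (hmul (hmul (hg f 0) (hg f 1)) (hg f 2)) (hg f 3)) (hg f 4)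
  rcases S.ρ_eq_iff (ONB.IsDiag.unique S.onb hB hxd) with e | e
  · exact e ▸ hx
  · rw [e, ← neg_one_mul]
    have hx01 := R4.mul_mem (Subgroup.subset_closure ⟨(0 : Fin 5), rfl⟩ : S.xs 0 ∈ R4)
      (Subgroup.subset_closure ⟨(1 : Fin 5), rfl⟩ : S.xs 1 ∈ R4)
    have hm : (-1 : GL (Fin 4) F) = S.xs 0 * S.xs 1 * (S.xs 0 * S.xs 1) := by
      conv_rhs => arg 1; rw [S.xs_anti (show (0 : Fin 5) ≠ 1 by decide)]
      rw [neg_mul, mul_assoc, ← mul_assoc (S.xs 0), S.xs_sq, one_mul, S.xs_sq]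
    exact R4.mul_mem (hm ▸ R4.mul_mem hx01 hx01) hx

/-- An element fixing the first vector and normalising the five involutions normalises the standard group. -/
theorem U4.η_mem_NS {M : GL (Fin 2 ⊕ Fin 2) S.K} (hM : M ∈ Cfsg.spGL 2 S.K)
    (hN : M ∈ Cfsg.Geo.subgroupNormalizer S.R5) : S.η M ∈ S.NS := by
  set R4 := Subgroup.closure (Set.range S.xs)
  have hR4 : R4 ≤ S.Std := by
    rw [Subgroup.closure_le]
    rintro _ ⟨a, rfl⟩
    exact S.xs_mem a
  have hmap : S.R5.map S.η = R4 := by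
    rw [U4.R5, MonoidHom.map_closure]
    congr 1
    rw [← Set.range_comp]
    exact congrArg Set.range (funext S.η_x)
  have key : ∀ N : GL (Fin 2 ⊕ Fin 2) S.K, N ∈ Cfsg.Geo.subgroupNormalizer S.R5 → ∀ x ∈ S.Std,
      S.η N * x * (S.η N)⁻¹ ∈ S.Std := by
    intro N hN x hx
    have hconj : ∀ y ∈ R4, S.η N * y * (S.η N)⁻¹ ∈ S.Std := by
      intro y hy
      rw [← hmap] at hy
      obtain ⟨z, hz, rfl⟩ := Subgroup.mem_map.1 hy
      refine hR4 (hmap ▸ Subgroup.mem_map.2 ⟨_, (Subgroup.mem_normalizer_iff.1 hN z).1 hz, ?_⟩)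
      rw [map_mul, map_mul, map_inv]
    obtain ⟨B, hB⟩ := S.diag_of_std (g := ⟨x, S.std_le hx⟩) hx
    by_cases h0 : (0 : Fin 6) ∈ B
    · set xi : G4 F p := ⟨x, S.std_le hx⟩ * S.genG 4 with hxi
      have hxR : (xi : GL (Fin 4) F) ∈ R4 := S.mem_five_of_fix (mul_mem hx (S.gens_mem 4)) (by
        rw [hxi, map_mul]
        rw [ONB.IsDiag.mul S.onb hB (S.diag_gens 4) 0, if_neg]
        simp [Finset.mem_symmDiff, h0, bsets])
      have hgI : S.η N * S.gI = S.gI * S.η N := Units.ext (by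
        simp [Units.val_mul, U4.gI])
      have e : S.η N * x * (S.η N)⁻¹ = S.η N * (xi : GL (Fin 4) F) * (S.η N)⁻¹ * S.gI⁻¹ := by
        rw [show (xi : GL (Fin 4) F) = x * S.gI from rfl]
        have : S.gI * (S.η N)⁻¹ * S.gI⁻¹ = (S.η N)⁻¹ := by
          rw [mul_inv_eq_iff_eq_mul, eq_inv_mul_iff_mul_eq, ← mul_assoc, hgI, mul_inv_cancel_right]
        conv_lhs => rw [← this]
        group
      rw [e]
      exact S.Std.mul_mem (hconj _ hxR) (S.Std.inv_mem (S.gens_mem 4))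
    · exact hconj _ (S.mem_five_of_fix (r := ⟨x, S.std_le hx⟩) hx (by rw [hB 0, if_neg h0]))
  refine S.mem_NS_of_maps (key M hN) fun x hx => ?_
  have := key M⁻¹ (inv_mem hN) x hx
  rwa [map_inv, inv_inv] at this

end Cfsg.Agent.H12.CSix.Four
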