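import Cfsg.Agent.H27.RankSixMinus
import Cfsg.Agent.H97.Frame.Main

/-!
The Klein map of SU_4(p), p = 3 (mod 4), into the orthogonal group of six orthonormal vectors over the prime field.
-/

set_option autoImplicit false

namespace Cfsg.Agent.H12.CSix.Four

open Matrix Cfsg.Agent.H27.KleinCorr Cfsg.Agent.H27.RankSixMinus Cfsg.Agent.Orthogonal Cfsg.Agent.H97.Frame

/-- The setting: the field of p² elements, p = 3 (mod 4), with a square root of minus one. -/
structure U4 (F : Type*) [Field F] [Fintype F] (p : ℕ) where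
  hF : Fintype.card F = p ^ 2
  hp : p.Prime
  hp4 : p % 4 = 3
  i : F
  hi : i * i = -1

variable {F : Type*} [Field F] [Fintype F] {p : ℕ} (S : U4 F p)

/-- The determinant-one isometry group. -/
abbrev G4 (F : Type*) [Field F] (p : ℕ) : Subgroup (GL (Fin 4) F) :=
  Cfsg.GU 4 F p ⊓ Cfsg.Geo.specialLinear (Fin 4) F

include S in
theorem U4.charP : CharP F p := by
  haveI := Fact.mk S.hp
  exact charP_of_card_eq_prime_pow S.hF

include S in
theorem U4.two : (2 : F) ≠ 0 := by
  haveI := S.charP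
  intro h
  have hd : p ∣ 2 := (CharP.cast_eq_zero_iff F p 2).1 (by exact_mod_cast h)
  have := Nat.le_of_dvd two_pos hd
  have := S.hp4
  omega

theorem U4.i_ne_zero : S.i ≠ 0 := by
  intro h
  have := S.hi
  rw [h, mul_zero] at this
  exact one_ne_zero (show (1 : F) = 0 by linear_combination this)

theorem U4.ip : S.i ^ p = -S.i := by
  obtain ⟨m, hm⟩ : ∃ m, p = 4 * m + 3 := ⟨p / 4, by have := S.hp4; omega⟩
  rw [show S.i ^ p = S.i ^ (4 * m + 3) from congrArg (S.i ^ ·) hm, pow_add, pow_mul, show S.i ^ 4 = 1 by linear_combination (S.i * S.i - 1) * S.hi, one_pow, one_mul]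
  linear_combination S.i * S.hi

/-- The prime field inside `F`. -/
abbrev U4.K (S : U4 F p) : Type _ := Unitary.fixK S.hF

noncomputable instance U4.instFintype (S : U4 F p) : Fintype S.K := Fintype.ofFinite _

theorem U4.card_K : Fintype.card S.K = p := by
  rw [← Nat.card_eq_fintype_card]; exact Unitary.card_fixK S.hF

theorem U4.aniso : ∀ z₁ z₂ : S.K, z₁ ^ 2 + 0 * z₁ * z₂ + 1 * z₂ ^ 2 = 0 → z₁ = 0 ∧ z₂ = 0 := by
  intro z₁ z₂ h
  have h' : (z₁ : F) ^ 2 + (z₂ : F) ^ 2 = 0 := by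
    have := congrArg Subtype.val h
    push_cast at this
    linear_combination this
  by_cases h2 : z₂ = 0
  · subst h2
    refine ⟨?_, rfl⟩
    have : (z₁ : F) = 0 := by simpa using h'
    exact Subtype.ext this
  exfalso
  have h20 : (z₂ : F) ≠ 0 := fun e => h2 (Subtype.ext e)
  set w := (z₁ : F) / z₂ with hw
  have hwp : w ^ p = w := by rw [hw, div_pow, (Unitary.mem_fixK S.hF).1 z₁.2, (Unitary.mem_fixK S.hF).1 z₂.2]
  have hw2 : w * w = S.i * S.i := by
    rw [S.hi, hw]; field_simp; linear_combination h'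
  rcases mul_self_eq_mul_self_iff.1 hw2 with e | e
  · rw [e, S.ip] at hwp
    exact mul_ne_zero S.two S.i_ne_zero (by linear_combination -hwp)
  · rw [e, neg_pow, S.ip, Odd.neg_one_pow (Nat.odd_iff.2 (by have := S.hp4; omega))] at hwp
    exact mul_ne_zero S.two S.i_ne_zero (by linear_combination hwp)

/-- The model of H27. -/
noncomputable def U4.D : Model S.K F 0 1 p :=
  Classical.choice (exists_model S.card_K S.hF 0 1 S.aniso)

/-- The coordinate space. -/
abbrev U4.V (S : U4 F p) : Type _ := (Fin 2 ⊕ Fin 2) ⊕ Fin 2 → S.K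

/-- The form. -/
noncomputable abbrev U4.Q : QuadraticForm S.K S.V := formMinus S.K 2 0 1

/-- Six vectors of the fixed space in Plücker coordinates. -/
def cvec (i : F) (k : Fin 6) : Fin 3 ⊕ Fin 3 → F :=
  ![Sum.elim ![1, 0, 0] ![1, 0, 0], Sum.elim ![i, 0, 0] ![-i, 0, 0],
    Sum.elim ![0, 1, 0] ![0, 1, 0], Sum.elim ![0, i, 0] ![0, -i, 0],
    Sum.elim ![0, 0, 1] ![0, 0, 1], Sum.elim ![0, 0, i] ![0, 0, -i]] k

theorem cvec_fixed (k : Fin 6) : dual (cvec S.i k) = S.D.σ ∘ cvec S.i k := by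
  have h1 : S.D.σ S.i = -S.i := by rw [S.D.σ_eq, S.ip]
  funext l
  rcases l with l | l <;> fin_cases k <;> fin_cases l <;> simp [cvec, dual_inl, dual_inr, h1]

/-- The six orthonormal vectors. -/
noncomputable def U4.e (k : Fin 6) : S.V :=
  S.D.back S.card_K S.hF fun l => cvec S.i k (.inl l)

theorem U4.E_e (k : Fin 6) : S.D.E (S.e k) = cvec S.i k := E_back S.D S.card_K S.hF _ (cvec_fixed S k)

theorem U4.emb_Q (v : S.V) : S.D.emb (S.Q v) = pf (S.D.E v) := (pf_E S.D v).symm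

theorem pf_cvec {i : F} (hi : i * i = -1) (k : Fin 6) : pf (cvec i k) = 1 := by
  fin_cases k <;> simp [pf, cvec, hi]

theorem pf_cvec_add {i : F} (hi : i * i = -1) {a b : Fin 6} (h : a ≠ b) :
    pf (cvec i a + cvec i b) = 2 := by
  fin_cases a <;> fin_cases b <;> first | exact absurd rfl h | (simp [pf, cvec] <;> grind)

theorem U4.two_K : (2 : S.K) ≠ 0 := fun h => S.two (by
  have := congrArg S.D.emb h
  rwa [map_ofNat, map_zero] at this)

theorem U4.Q_e (k : Fin 6) : S.Q (S.e k) = 1 := by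
  apply S.D.emb.injective
  rw [S.emb_Q, S.E_e, pf_cvec S.hi, map_one]

theorem U4.polar_e {a b : Fin 6} (h : a ≠ b) : QuadraticMap.polar S.Q (S.e a) (S.e b) = 0 := by
  apply S.D.emb.injective
  rw [QuadraticMap.polar, map_sub, map_sub, S.emb_Q, E_add, S.E_e, S.E_e, pf_cvec_add S.hi h, S.Q_e, S.Q_e,
    map_one, map_zero]
  norm_num

theorem U4.onb : ONB S.Q S.e (1 : S.K) := by
  classical
  have hli : LinearIndependent S.K S.e := by
    rw [Fintype.linearIndependent_iff]
    intro g hg a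
    have h := congrArg (fun v => QuadraticMap.polarBilin S.Q (S.e a) v) hg
    simp only [map_sum, map_smul, map_zero, QuadraticMap.polarBilin_apply_apply, smul_eq_mul] at h
    rw [Finset.sum_eq_single a (fun b _ hb => by rw [S.polar_e (Ne.symm hb), mul_zero]) (by simp),
      QuadraticMap.polar_self, S.Q_e] at h
    simpa [S.two_K] using h
  exact ⟨S.two_K, one_ne_zero, S.Q_e, fun a b h => S.polar_e h, hli.span_eq_top_of_card_eq_finrank (by simp)⟩

/-- Elements of `G4` as elements of `SU`. -/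
def toSU4 (F : Type*) [Field F] (p : ℕ) : G4 F p →* Cfsg.SU 4 F p where
  toFun g := ⟨⟨((g : GL (Fin 4) F) : Matrix (Fin 4) (Fin 4) F),
      by simpa using congrArg Units.val (MonoidHom.mem_ker.1 g.2.2)⟩, g.2.1⟩
  map_one' := rfl
  map_mul' _ _ := rfl

theorem toSU4_surjective : Function.Surjective (toSU4 F p) := fun A =>
  ⟨⟨Matrix.SpecialLinearGroup.toGL A.1, A.2, MonoidHom.mem_ker.2 (Units.ext (by simp))⟩, rfl⟩

/-- The Klein map into the isometry group. -/
noncomputable def U4.φ : Cfsg.SU 4 F p →* Cfsg.isometryGroup S.K ⇑S.Q := suSix S.D S.card_K S.hF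

/-- The Klein map. -/
noncomputable def U4.ρ : G4 F p →* O S.Q := ((toO S.Q).toMonoidHom.comp S.φ).comp (toSU4 F p)

theorem U4.E_ρ (g : G4 F p) (v : S.V) :
    S.D.E ((S.ρ g : S.V ≃ₗ[S.K] S.V) v) = klein ((g : GL (Fin 4) F) : Matrix (Fin 4) (Fin 4) F) (S.D.E v) :=
  E_suSix S.D S.card_K S.hF (toSU4 F p g) v

theorem U4.ρ_eq_one {g : G4 F p} (h : S.ρ g = 1) :
    ((g : GL (Fin 4) F) = 1 ∨ (g : GL (Fin 4) F) = -1) := by
  obtain ⟨c, hc, hcg⟩ := scalar_of_fix S.D S.card_K S.hF (A := toSU4 F p g) fun v => by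
    have := S.E_ρ g v
    rw [h] at this
    exact this.symm
  rcases mul_self_eq_one_iff.1 hc with rfl | rfl
  · exact Or.inl (Units.ext (hcg.trans (one_smul F _)))
  · exact Or.inr (Units.ext (hcg.trans (by simp)))

theorem U4.ρ_eq_iff {g h : G4 F p} (e : S.ρ g = S.ρ h) :
    ((g : GL (Fin 4) F) = h ∨ (g : GL (Fin 4) F) = -(h : GL (Fin 4) F)) := by
  rcases S.ρ_eq_one (g := g * h⁻¹) (by rw [map_mul, map_inv, e, mul_inv_cancel]) with e' | e'
  · exact Or.inl (mul_inv_eq_one.1 e')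
  · refine Or.inr ?_
    rw [Subgroup.coe_mul, Subgroup.coe_inv, mul_inv_eq_iff_eq_mul] at e'
    rw [e', neg_one_mul]

theorem U4.nondeg : Nondeg S.Q := formMinus_nondeg 2 S.aniso

include S in
/-- The Klein map is onto the commutator subgroup. -/
theorem U4.range_ρ : S.ρ.range = commutator (O S.Q) := by
  classical
  set φ := S.φ with hφ
  have hsub : φ.range ≤ Cfsg.Omega S.K ⇑S.Q := by
    rw [MonoidHom.range_eq_map, ← Cfsg.Agent.Unitary.commutator_eq_top (n := 4) S.hF (Or.inl le_rfl),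
      commutator_def, Subgroup.map_commutator]
    exact Subgroup.commutator_mono le_top le_top
  have hker : ∀ A ∈ φ.ker, ∃ c : F, c * c = 1 ∧
      ((A.1 : Matrix.SpecialLinearGroup (Fin 4) F) : Matrix (Fin 4) (Fin 4) F) = c • 1 := fun A hA => by
    refine scalar_of_fix S.D S.card_K S.hF fun v => ?_
    rw [← E_suSix S.D S.card_K S.hF, show suSix S.D S.card_K S.hF A = 1 from MonoidHom.mem_ker.1 hA, Subgroup.coe_one,
      Units.val_one, Matrix.one_mulVec]
  obtain ⟨h2, -⟩ := card_le_of_scalar φ.ker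
    (fun A : Cfsg.SU 4 F p => ((A.1 : Matrix.SpecialLinearGroup (Fin 4) F) : Matrix (Fin 4) (Fin 4) F))
    (fun x y h => Subtype.ext (Subtype.ext h)) hker
  have hcard : Nat.card (Cfsg.isometryGroup S.K ⇑S.Q) = 2 * Nat.card (Cfsg.SU 4 F p) := by
    show Nat.card (Cfsg.isometryGroup S.K (Cfsg.quadFormMinus 2 S.K 0 1)) = _
    rw [Cfsg.Agent.S0288.result S.card_K 3 (by norm_num) 0 1 S.aniso, card_su_four S.hF]
    simp [Finset.prod_range_succ, mul_assoc]
  have hidx : 2 * Nat.card φ.ker ≤ (Cfsg.Omega S.K ⇑S.Q).index := by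
    rw [omega_index, index_commutator_eq_four S.nondeg S.two_K (by simp)]
    omega
  have e1 := (Cfsg.Omega S.K ⇑S.Q).card_mul_index
  have e2 := φ.ker.card_mul_index
  rw [Subgroup.index_ker] at e2
  have hk : 0 < Nat.card φ.ker := Nat.card_pos
  have hle : Nat.card (Cfsg.Omega S.K ⇑S.Q) ≤ Nat.card φ.range := by
    refine Nat.le_of_mul_le_mul_right (c := 2 * Nat.card φ.ker) ?_ (by omega)
    calc Nat.card (Cfsg.Omega S.K ⇑S.Q) * (2 * Nat.card φ.ker)
        ≤ Nat.card (Cfsg.Omega S.K ⇑S.Q) * (Cfsg.Omega S.K ⇑S.Q).index := Nat.mul_le_mul_left _ hidx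
      _ = 2 * (Nat.card φ.ker * Nat.card φ.range) := by rw [e1, hcard, e2]
      _ = Nat.card φ.range * (2 * Nat.card φ.ker) := by ring
  have heq : φ.range = Cfsg.Omega S.K ⇑S.Q := Subgroup.eq_of_le_of_card_ge hsub hle
  rw [U4.ρ, MonoidHom.range_comp, MonoidHom.range_eq_top.2 toSU4_surjective, ← MonoidHom.range_eq_map]
  rw [MonoidHom.range_comp, ← hφ, heq, toO_map_omega]

theorem U4.pair_mem_range {a b : S.V} (ha : S.Q a ≠ 0) (hab : S.Q b = S.Q a) :
    rO S.Q a * rO S.Q b ∈ S.ρ.range := by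
  rw [S.range_ρ, mem_commutator_iff S.nondeg S.two_K, map_mul, map_mul,
    detSign_rO S.nondeg S.two_K ha, detSign_rO S.nondeg S.two_K (hab ▸ ha),
    spinor_rO S.nondeg S.two_K ha, spinor_rO S.nondeg S.two_K (hab ▸ ha), hab]
  exact ⟨by simp, Int.units_mul_self _⟩

end Cfsg.Agent.H12.CSix.Four
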