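import Cfsg.Agent.H12.CSix.Four.Std
import Cfsg.Agent.H57.Frame5.Top

/-!
The stabiliser in SU_4(p) of the first of the six vectors is a symplectic group over the prime field.
-/

set_option autoImplicit false

namespace Cfsg.Agent.H12.CSix.Four

open Matrix Cfsg.Agent.H27.KleinCorr Cfsg.Agent.Orthogonal

variable {F : Type*} [Field F]

/-- The alternating matrix of the first vector. -/
def E0 : Matrix (Fin 4) (Fin 4) F := !![0, 1, 0, 0; -1, 0, 0, 0; 0, 0, 0, 1; 0, 0, -1, 0]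

theorem alt_cvec_zero (i : F) : alt (cvec i 0) = (E0 : Matrix (Fin 4) (Fin 4) F) := by
  ext a b; fin_cases a <;> fin_cases b <;> simp [alt, cvec, E0]

theorem E0_mul_self : (E0 : Matrix (Fin 4) (Fin 4) F) * E0 = -1 := by
  ext a b; fin_cases a <;> fin_cases b <;> simp [E0, Matrix.mul_apply, Fin.sum_univ_four]

/-- Sum coordinates as four coordinates, the two members of a pair side by side. -/
def idx : Fin 2 ⊕ Fin 2 ≃ Fin 4 where
  toFun := Sum.elim ![0, 2] ![1, 3]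
  invFun := ![Sum.inl 0, Sum.inr 0, Sum.inl 1, Sum.inr 1]
  left_inv := by rintro (k | k) <;> fin_cases k <;> rfl
  right_inv := by intro k; fin_cases k <;> rfl

variable [Fintype F] {p : ℕ} (S : U4 F p)

include S in
theorem U4.exists_c : ∃ c : F, c * c ^ p = -1 := Unitary.exists_norm_eq_neg_one S.hF

/-- A scalar of norm minus one. -/
noncomputable def U4.c : F := S.exists_c.choose

theorem U4.hc : S.c * S.c ^ p = -1 := S.exists_c.choose_spec

theorem U4.c_ne_zero : S.c ≠ 0 := by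
  intro h
  have := S.hc
  rw [h, zero_mul] at this
  exact one_ne_zero (show (1 : F) = 0 by linear_combination this)

/-- The change to real coordinates. -/
noncomputable def U4.Pm : Matrix (Fin 4) (Fin 4) F :=
  !![1, S.i, 0, 0; -S.c⁻¹, S.i * S.c⁻¹, 0, 0; 0, 0, 1, S.i; 0, 0, -S.c⁻¹, S.i * S.c⁻¹]

theorem U4.det_Pm : S.Pm.det ≠ 0 := by
  have h : S.Pm.det = (2 * S.i * S.c⁻¹) * (2 * S.i * S.c⁻¹) := by
    simp [U4.Pm, Matrix.det_succ_row_zero, Fin.sum_univ_succ, Fin.succAbove]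
    ring
  rw [h]
  have := mul_ne_zero (mul_ne_zero S.two S.i_ne_zero) (inv_ne_zero S.c_ne_zero)
  exact mul_ne_zero this this

/-- The change to real coordinates as a unit. -/
noncomputable def U4.PG : GL (Fin 4) F := Matrix.GeneralLinearGroup.mkOfDetNeZero S.Pm S.det_Pm

theorem U4.val_PG : (S.PG : Matrix (Fin 4) (Fin 4) F) = S.Pm := rfl

theorem U4.map_Pm : S.Pm.map (Unitary.frob S.hF) = (-S.c) • (E0 * S.Pm) := by
  have h1 : S.c ^ p = -S.c⁻¹ := by
    field_simp [S.c_ne_zero]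
    linear_combination S.hc
  have hi := S.ip
  have h2 : (S.c⁻¹) ^ p = -S.c := by
    rw [inv_pow, h1, ← neg_inv, inv_inv]
  have h0 : (0 : F) ^ p = 0 := zero_pow S.hp.pos.ne'
  have hneg : ∀ x : F, (-x) ^ p = -(x ^ p) := fun x => by rw [neg_pow, S.odd_p.neg_one_pow, neg_one_mul]
  have hc : S.c * S.c⁻¹ = 1 := mul_inv_cancel₀ S.c_ne_zero
  ext a b
  fin_cases a <;> fin_cases b <;>
    simp [U4.Pm, E0, Matrix.mul_apply, Fin.sum_univ_four, Unitary.frob_apply, hi, h2, h0, hneg, mul_pow] <;>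
    grind

/-- Entries fixed by the Frobenius come from the prime field. -/
theorem U4.exists_emb {z : F} (hz : z ^ p = z) : ∃ u : S.K, S.D.emb u = z := by
  obtain ⟨u, w, rfl⟩ := S.D.span z
  refine ⟨u, ?_⟩
  rw [← S.D.σ_eq, map_add, map_mul, S.D.fix, S.D.fix] at hz
  have : (S.D.σ S.D.θ - S.D.θ) * S.D.emb w = 0 := by linear_combination hz
  rw [(mul_eq_zero.1 this).resolve_left (sub_ne_zero.2 S.D.ne), mul_zero, add_zero]

theorem U4.emb_fixed (u : S.K) : (S.D.emb u) ^ p = S.D.emb u := by rw [← S.D.σ_eq, S.D.fix]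

/-- Reindexing and extending the scalars. -/
noncomputable def U4.lift : GL (Fin 2 ⊕ Fin 2) S.K →* GL (Fin 4) F :=
  (Units.map (Matrix.reindexAlgEquiv F F idx).toAlgHom.toRingHom.toMonoidHom).comp
    (Matrix.GeneralLinearGroup.map S.D.emb)

theorem U4.val_lift (M : GL (Fin 2 ⊕ Fin 2) S.K) : (S.lift M : Matrix (Fin 4) (Fin 4) F) =
    ((M : Matrix (Fin 2 ⊕ Fin 2) (Fin 2 ⊕ Fin 2) S.K).map S.D.emb).submatrix idx.symm idx.symm := rfl

/-- The embedding of the matrices over the prime field. -/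
noncomputable def U4.η : GL (Fin 2 ⊕ Fin 2) S.K →* GL (Fin 4) F :=
  (MulAut.conj S.PG).toMonoidHom.comp S.lift

theorem U4.η_apply (M : GL (Fin 2 ⊕ Fin 2) S.K) : S.η M = S.PG * S.lift M * S.PG⁻¹ := rfl

theorem U4.η_injective : Function.Injective S.η := by
  intro M N h
  have h' : S.lift M = S.lift N := mul_left_cancel (mul_right_cancel h)
  refine Units.ext (Matrix.ext fun a b => S.D.emb.injective ?_)
  have := congrArg (fun g : GL (Fin 4) F => (g : Matrix (Fin 4) (Fin 4) F) (idx a) (idx b)) h'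
  simpa [U4.val_lift] using this

theorem U4.lift_J : ((Matrix.J (Fin 2) S.K).map S.D.emb).submatrix idx.symm idx.symm
    = -(E0 : Matrix (Fin 4) (Fin 4) F) := by
  ext a b; fin_cases a <;> fin_cases b <;> simp [idx, E0, Matrix.J, Matrix.fromBlocks]

theorem U4.Pm_E0 : S.Pm * E0 * S.Pmᵀ = (2 * S.i * S.c⁻¹) • (E0 : Matrix (Fin 4) (Fin 4) F) := by
  ext a b
  fin_cases a <;> fin_cases b <;>
    simp [U4.Pm, E0, Matrix.mul_apply, Matrix.vecMul, Matrix.transpose_apply, dotProduct, Fin.sum_univ_four] <;>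
    ring

theorem U4.lift_symp_iff (M : GL (Fin 2 ⊕ Fin 2) S.K) :
    (M : Matrix (Fin 2 ⊕ Fin 2) (Fin 2 ⊕ Fin 2) S.K) ∈ Matrix.symplecticGroup (Fin 2) S.K ↔
      (S.lift M : Matrix (Fin 4) (Fin 4) F) * E0 * (S.lift M : Matrix (Fin 4) (Fin 4) F)ᵀ = E0 := by
  set A := (M : Matrix (Fin 2 ⊕ Fin 2) (Fin 2 ⊕ Fin 2) S.K)
  have key : ((A * Matrix.J (Fin 2) S.K * Aᵀ).map S.D.emb).submatrix idx.symm idx.symm
      = -((S.lift M : Matrix (Fin 4) (Fin 4) F) * E0 * (S.lift M : Matrix (Fin 4) (Fin 4) F)ᵀ) := by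
    rw [Matrix.map_mul, Matrix.map_mul, ← Matrix.submatrix_mul_equiv _ _ _ idx.symm,
      ← Matrix.submatrix_mul_equiv _ _ _ idx.symm, S.lift_J, U4.val_lift, Matrix.mul_neg, Matrix.neg_mul,
      Matrix.transpose_submatrix, Matrix.transpose_map]
  rw [SymplecticGroup.mem_iff]
  constructor
  · intro h
    rw [h, S.lift_J] at key
    exact (neg_injective key).symm
  · intro h
    rw [h, ← S.lift_J] at key
    refine Matrix.ext fun a b => S.D.emb.injective ?_
    have := congrFun (congrFun key (idx a)) (idx b)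
    simpa only [Matrix.submatrix_apply, Matrix.map_apply, Equiv.symm_apply_apply] using this

theorem U4.frob_map_mul (A B : Matrix (Fin 4) (Fin 4) F) :
    (A * B).map (Unitary.frob S.hF) = A.map (Unitary.frob S.hF) * B.map (Unitary.frob S.hF) := Matrix.map_mul

theorem U4.preserves_iff (g : GL (Fin 4) F) :
    g ∈ Cfsg.GU 4 F p ↔ (g : Matrix (Fin 4) (Fin 4) F)ᵀ * (g : Matrix (Fin 4) (Fin 4) F).map (Unitary.frob S.hF) = 1 := by
  rw [Unitary.mem_GU_iff, Unitary.preserves_iff_transpose_mul S.hF,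
    show ⇑(Unitary.frob S.hF) = fun x : F => x ^ p from funext (Unitary.frob_apply S.hF)]

theorem U4.η_mul_PG (M : GL (Fin 2 ⊕ Fin 2) S.K) :
    (S.η M : Matrix (Fin 4) (Fin 4) F) * S.Pm = S.Pm * (S.lift M : Matrix (Fin 4) (Fin 4) F) := by
  rw [← S.val_PG, ← Units.val_mul, S.η_apply, inv_mul_cancel_right, Units.val_mul]

omit [Fintype F] in
theorem U4.transpose_E0 {g : Matrix (Fin 4) (Fin 4) F} (h : g * E0 * gᵀ = E0) : gᵀ * E0 * g = E0 := by
  have h1 : g * (E0 * gᵀ * (-E0)) = 1 := by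
    rw [← mul_assoc, ← mul_assoc, h, mul_neg, E0_mul_self, neg_neg]
  have h2 := mul_eq_one_comm.1 h1
  calc gᵀ * E0 * g = (-E0) * (E0 * gᵀ * (-E0) * g) * (-1 : Matrix (Fin 4) (Fin 4) F) := by
        simp only [mul_assoc, neg_mul, mul_neg, ← mul_assoc E0 E0, E0_mul_self, one_mul, mul_one, neg_neg]
    _ = E0 := by rw [h2]; simp

/-- A symplectic matrix over the prime field gives an element fixing the first vector. -/
theorem U4.η_mem {M : GL (Fin 2 ⊕ Fin 2) S.K} (hM : M ∈ Cfsg.spGL 2 S.K) :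
    S.η M ∈ G4 F p ∧ (S.η M : Matrix (Fin 4) (Fin 4) F) * E0 * (S.η M : Matrix (Fin 4) (Fin 4) F)ᵀ = E0 := by
  obtain ⟨y, rfl⟩ := H57.Frame5.exists_toGL hM
  set g := (S.η (H57.Frame5.toGL S.K y) : Matrix (Fin 4) (Fin 4) F) with hgdef
  set h := (S.lift (H57.Frame5.toGL S.K y) : Matrix (Fin 4) (Fin 4) F) with hhdef
  have hh : h * E0 * hᵀ = E0 := (S.lift_symp_iff _).1 y.2
  have hgP : g * S.Pm = S.Pm * h := S.η_mul_PG _
  have hd : (2 * S.i * S.c⁻¹) ≠ 0 := mul_ne_zero (mul_ne_zero S.two S.i_ne_zero) (inv_ne_zero S.c_ne_zero)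
  have hE : g * E0 * gᵀ = E0 := by
    refine smul_right_injective _ hd ?_
    calc (2 * S.i * S.c⁻¹) • (g * E0 * gᵀ) = g * (S.Pm * E0 * S.Pmᵀ) * gᵀ := by
          rw [S.Pm_E0, Matrix.mul_smul, Matrix.smul_mul]
      _ = (g * S.Pm) * E0 * (g * S.Pm)ᵀ := by simp only [Matrix.transpose_mul, mul_assoc]
      _ = S.Pm * (h * E0 * hᵀ) * S.Pmᵀ := by rw [hgP]; simp only [Matrix.transpose_mul, mul_assoc]
      _ = (2 * S.i * S.c⁻¹) • E0 := by rw [hh, S.Pm_E0]
  have hfix : h.map (Unitary.frob S.hF) = h := by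
    ext a b
    simp [hhdef, U4.val_lift, Unitary.frob_apply, S.emb_fixed]
  have hPu : IsUnit S.Pm := S.val_PG ▸ S.PG.isUnit
  have hσ : g.map (Unitary.frob S.hF) * E0 = E0 * g := by
    have e := congrArg (fun A : Matrix (Fin 4) (Fin 4) F => A.map (Unitary.frob S.hF)) hgP
    simp only [S.frob_map_mul, S.map_Pm, hfix, Matrix.mul_smul, Matrix.smul_mul] at e
    have e' := smul_right_injective _ (neg_ne_zero.2 S.c_ne_zero) e
    rw [← mul_assoc, mul_assoc E0 S.Pm, ← hgP, ← mul_assoc] at e'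
    exact hPu.mul_right_cancel e'
  refine ⟨⟨?_, ?_⟩, hE⟩
  · show S.η _ ∈ Cfsg.GU 4 F p
    rw [S.preserves_iff, ← hgdef]
    have : g.map (Unitary.frob S.hF) = -(E0 * g * E0) := by
      rw [← hσ, mul_assoc, E0_mul_self, mul_neg, mul_one, neg_neg]
    rw [this, mul_neg, ← mul_assoc, ← mul_assoc, U4.transpose_E0 hE, E0_mul_self, neg_neg]
  · refine MonoidHom.mem_ker.2 (Units.ext ?_)
    rw [Matrix.GeneralLinearGroup.val_det_apply, Units.val_one, S.η_apply, Units.val_mul, Units.val_mul,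
      Matrix.det_units_conj, U4.val_lift, Matrix.det_submatrix_equiv_self, ← RingHom.mapMatrix_apply,
      ← RingHom.map_det]
    show S.D.emb (y : Matrix (Fin 2 ⊕ Fin 2) (Fin 2 ⊕ Fin 2) S.K).det = 1
    rw [SymplecticGroup.det_eq_one y.2, map_one]

/-- An element fixing the first vector comes from a symplectic matrix over the prime field. -/
theorem U4.exists_η {g : GL (Fin 4) F} (hg : g ∈ Cfsg.GU 4 F p)
    (hE : (g : Matrix (Fin 4) (Fin 4) F) * E0 * (g : Matrix (Fin 4) (Fin 4) F)ᵀ = E0) :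
    ∃ M ∈ Cfsg.spGL 2 S.K, S.η M = g := by
  set gm := (g : Matrix (Fin 4) (Fin 4) F)
  set hG := S.PG⁻¹ * g * S.PG with hhG
  set h := (hG : Matrix (Fin 4) (Fin 4) F) with hhdef
  have hgP : gm * S.Pm = S.Pm * h := by
    rw [← S.val_PG, ← Units.val_mul, hhdef, ← Units.val_mul, hhG]
    congr 1
    group
  have hσ : gm.map (Unitary.frob S.hF) * E0 = E0 * gm := by
    have h1 := (S.preserves_iff g).1 hg
    calc gm.map (Unitary.frob S.hF) * E0 = -(E0 * (E0 * gm.map (Unitary.frob S.hF) * E0)) := by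
          simp only [← mul_assoc, E0_mul_self, neg_mul, one_mul, neg_neg]
      _ = -(E0 * ((gm * E0 * gmᵀ) * gm.map (Unitary.frob S.hF) * E0)) := by rw [hE]
      _ = E0 * gm := by
          rw [mul_assoc (gm * E0), h1, mul_one, mul_assoc, E0_mul_self, mul_neg, mul_one, mul_neg, neg_neg]
  have hfix : h.map (Unitary.frob S.hF) = h := by
    have e := congrArg (fun A : Matrix (Fin 4) (Fin 4) F => A.map (Unitary.frob S.hF)) hgP
    simp only [S.frob_map_mul, S.map_Pm, Matrix.mul_smul, Matrix.smul_mul] at e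
    have e' := smul_right_injective _ (neg_ne_zero.2 S.c_ne_zero) e
    rw [← mul_assoc, hσ, mul_assoc E0 gm, hgP, mul_assoc] at e'
    have hE0 : IsUnit (E0 : Matrix (Fin 4) (Fin 4) F) :=
      ⟨⟨E0, -E0, by rw [mul_neg, E0_mul_self, neg_neg], by rw [neg_mul, E0_mul_self, neg_neg]⟩, rfl⟩
    exact (S.val_PG ▸ S.PG.isUnit : IsUnit S.Pm).mul_left_cancel (hE0.mul_left_cancel e').symm
  have hent : ∀ a b, ∃ u : S.K, S.D.emb u = h a b := fun a b =>
    S.exists_emb (by rw [← Unitary.frob_apply S.hF]; exact congrFun (congrFun hfix a) b)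
  choose u hu using hent
  set A : Matrix (Fin 2 ⊕ Fin 2) (Fin 2 ⊕ Fin 2) S.K := Matrix.of fun a b => u (idx a) (idx b)
  have hA : (A.map S.D.emb).submatrix idx.symm idx.symm = h := by
    ext a b; simp [A, hu]
  have hdet : A.det ≠ 0 := by
    intro h0
    have : h.det = 0 := by
      rw [← hA, Matrix.det_submatrix_equiv_self, ← RingHom.mapMatrix_apply, ← RingHom.map_det, h0, map_zero]
    exact (Matrix.GeneralLinearGroup.det hG).ne_zero (by rw [Matrix.GeneralLinearGroup.val_det_apply]; exact this)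
  set M : GL (Fin 2 ⊕ Fin 2) S.K := Matrix.GeneralLinearGroup.mkOfDetNeZero A hdet
  have hlift : S.lift M = hG := Units.ext (by rw [U4.val_lift]; exact hA)
  have hηM : S.η M = g := by rw [S.η_apply, hlift, hhG]; group
  have hsymp : (M : Matrix (Fin 2 ⊕ Fin 2) (Fin 2 ⊕ Fin 2) S.K) ∈ Matrix.symplecticGroup (Fin 2) S.K := by
    rw [S.lift_symp_iff, hlift]
    have hd : (2 * S.i * S.c⁻¹) ≠ 0 := mul_ne_zero (mul_ne_zero S.two S.i_ne_zero) (inv_ne_zero S.c_ne_zero)
    have hPu : IsUnit S.Pm := S.val_PG ▸ S.PG.isUnit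
    have e : S.Pm * (h * E0 * hᵀ) * S.Pmᵀ = S.Pm * E0 * S.Pmᵀ := by
      calc S.Pm * (h * E0 * hᵀ) * S.Pmᵀ = (gm * S.Pm) * E0 * (gm * S.Pm)ᵀ := by
            rw [hgP]; simp only [Matrix.transpose_mul, mul_assoc]
        _ = gm * (S.Pm * E0 * S.Pmᵀ) * gmᵀ := by simp only [Matrix.transpose_mul, mul_assoc]
        _ = _ := by rw [S.Pm_E0, Matrix.mul_smul, Matrix.smul_mul, hE]
    exact hPu.mul_left_cancel ((((Matrix.isUnit_transpose _).2 hPu)).mul_right_cancel e)
  exact ⟨M, H57.Frame5.toGL_mem ⟨_, hsymp⟩, hηM⟩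

end Cfsg.Agent.H12.CSix.Four
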