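import Cfsg.Agent.H12.CSix.Four.Klein
import Cfsg.Agent.H73.Pauli.Frame

/-!
The standard Pauli group of SU_4(p) and its image, the even sign changes of the six vectors.
-/

set_option autoImplicit false

namespace Cfsg.Agent.H12.CSix.Four

open Matrix Cfsg.Agent.H27.KleinCorr Cfsg.Agent.Orthogonal Cfsg.Agent.H97.Frame
open Cfsg.Agent.H73.Pauli (sA1 sA2 sB1 sB2)

variable {F : Type*} [Field F]

/-- The swap of the low bit. -/
def gA1 : GL (Fin 4) F :=
  ⟨sA1, sA1, by ext a b; fin_cases a <;> fin_cases b <;> simp [sA1, Matrix.mul_apply, Fin.sum_univ_four],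
    by ext a b; fin_cases a <;> fin_cases b <;> simp [sA1, Matrix.mul_apply, Fin.sum_univ_four]⟩

/-- The sign of the low bit. -/
def gB1 : GL (Fin 4) F :=
  ⟨sB1, sB1, by ext a b; fin_cases a <;> fin_cases b <;> simp [sB1, Matrix.mul_apply, Fin.sum_univ_four],
    by ext a b; fin_cases a <;> fin_cases b <;> simp [sB1, Matrix.mul_apply, Fin.sum_univ_four]⟩

/-- The swap of the high bit. -/
def gA2 : GL (Fin 4) F :=
  ⟨sA2, sA2, by ext a b; fin_cases a <;> fin_cases b <;> simp [sA2, Matrix.mul_apply, Fin.sum_univ_four],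
    by ext a b; fin_cases a <;> fin_cases b <;> simp [sA2, Matrix.mul_apply, Fin.sum_univ_four]⟩

/-- The sign of the high bit. -/
def gB2 : GL (Fin 4) F :=
  ⟨sB2, sB2, by ext a b; fin_cases a <;> fin_cases b <;> simp [sB2, Matrix.mul_apply, Fin.sum_univ_four],
    by ext a b; fin_cases a <;> fin_cases b <;> simp [sB2, Matrix.mul_apply, Fin.sum_univ_four]⟩

variable [Fintype F] {p : ℕ} (S : U4 F p)

/-- The scalar of order four. -/
def U4.gI : GL (Fin 4) F :=
  ⟨S.i • 1, (-S.i) • 1, by rw [Matrix.smul_mul, Matrix.mul_smul, smul_smul, one_mul,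
      show S.i * -S.i = 1 by linear_combination -S.hi, one_smul],
    by rw [Matrix.smul_mul, Matrix.mul_smul, smul_smul, one_mul,
      show -S.i * S.i = 1 by linear_combination -S.hi, one_smul]⟩

/-- The five generators. -/
def U4.gens (k : Fin 5) : GL (Fin 4) F := ![gA1, gB1, gA2, gB2, S.gI] k

/-- The standard group 4∘2^(1+4). -/
def U4.Std : Subgroup (GL (Fin 4) F) := Subgroup.closure (Set.range S.gens)

theorem U4.gens_mem (k : Fin 5) : S.gens k ∈ S.Std := Subgroup.subset_closure ⟨k, rfl⟩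

include S in
theorem U4.odd_p : Odd p := Nat.odd_iff.2 (by have := S.hp4; omega)

theorem U4.gens_GU (k : Fin 5) : S.gens k ∈ Cfsg.GU 4 F p := by
  rw [Unitary.mem_GU_iff, Unitary.preserves_iff_transpose_mul S.hF]
  have hneg : (-1 : F) ^ p = -1 := S.odd_p.neg_one_pow
  have h0 : (0 : F) ^ p = 0 := zero_pow S.hp.pos.ne'
  fin_cases k <;> ext a b <;> fin_cases a <;> fin_cases b <;>
    simp [U4.gens, gA1, gB1, gA2, gB2, U4.gI, sA1, sB1, sA2, sB2, Matrix.mul_apply, Fin.sum_univ_four,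
      hneg, h0, S.ip, S.hi]

theorem U4.gens_SL (k : Fin 5) : S.gens k ∈ Cfsg.Geo.specialLinear (Fin 4) F := by
  refine MonoidHom.mem_ker.2 (Units.ext ?_)
  rw [Matrix.GeneralLinearGroup.val_det_apply]
  fin_cases k <;>
    simp [U4.gens, gA1, gB1, gA2, gB2, U4.gI, sA1, sB1, sA2, sB2, Matrix.det_succ_row_zero,
      Fin.sum_univ_succ, Fin.succAbove]
  linear_combination (S.i * S.i - 1) * S.hi

theorem U4.std_le : S.Std ≤ G4 F p := by
  rw [U4.Std, Subgroup.closure_le]
  rintro _ ⟨k, rfl⟩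
  exact ⟨S.gens_GU k, S.gens_SL k⟩

/-- A generator as an element of the determinant-one group. -/
def U4.genG (k : Fin 5) : G4 F p := ⟨S.gens k, S.gens_GU k, S.gens_SL k⟩

/-- The signs of a generator. -/
def bsets : Fin 5 → Finset (Fin 6) := ![{0, 1, 2, 5}, {0, 1, 4, 5}, {1, 2, 3, 4}, {2, 3, 4, 5}, Finset.univ]

theorem neg_E (v : S.V) : S.D.E (-v) = -S.D.E v := by
  rw [show -v = (-1 : S.K) • v by simp, H27.RankSixMinus.E_smul, map_neg, map_one, neg_one_smul]

theorem U4.diag_gens (k : Fin 5) : S.onb.IsDiag (S.ρ (S.genG k)) (bsets k) := by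
  intro l
  refine H27.RankSixMinus.E_injective S.D ?_
  rw [apply_ite S.D.E, S.E_ρ, neg_E, S.E_e]
  funext m
  rcases m with m | m <;> fin_cases k <;> fin_cases l <;> fin_cases m <;>
    simp [U4.genG, U4.gens, bsets, gA1, gB1, gA2, gB2, U4.gI, sA1, sB1, sA2, sB2, klein_apply, co, alt, cvec,
      Matrix.mul_apply, Matrix.vecMul, Matrix.transpose_apply, dotProduct, Fin.sum_univ_four, S.hi] <;> grind [S.hi]

/-- Every even set of signs comes from the standard group. -/
theorem U4.exists_lift (B : Finset (Fin 6)) (hB : Even B.card) :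
    ∃ r : G4 F p, (r : GL (Fin 4) F) ∈ S.Std ∧ S.onb.IsDiag (S.ρ r) B := by
  let T : Finset (Fin 6) → Prop := fun B => ∃ r : G4 F p, (r : GL (Fin 4) F) ∈ S.Std ∧ S.onb.IsDiag (S.ρ r) B
  have h0 : T ∅ := ⟨1, S.Std.one_mem, fun i => by simp⟩
  have hmul : ∀ {A C}, T A → T C → T (symmDiff A C) := fun ⟨a, ha, ha'⟩ ⟨c, hc, hc'⟩ =>
    ⟨a * c, S.Std.mul_mem ha hc, by rw [map_mul]; exact ONB.IsDiag.mul S.onb ha' hc'⟩
  have hg : ∀ k, T (bsets k) := fun k => ⟨S.genG k, S.gens_mem k, S.diag_gens k⟩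
  have hc : ∀ f : Fin 5 → Bool, T (symmDiff (symmDiff (symmDiff (symmDiff
      (bif f 0 then bsets 0 else ∅) (bif f 1 then bsets 1 else ∅)) (bif f 2 then bsets 2 else ∅))
      (bif f 3 then bsets 3 else ∅)) (bif f 4 then bsets 4 else ∅)) := by
    intro f
    have h : ∀ k, T (bif f k then bsets k else ∅) := fun k => by
      cases f k
      exacts [h0, hg k]
    exact hmul (hmul (hmul (hmul (h 0) (h 1)) (h 2)) (h 3)) (h 4)
  obtain ⟨f, rfl⟩ := (by decide +kernel : ∀ B : Finset (Fin 6), Even B.card → ∃ f : Fin 5 → Bool,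
      symmDiff (symmDiff (symmDiff (symmDiff
      (bif f 0 then bsets 0 else ∅) (bif f 1 then bsets 1 else ∅)) (bif f 2 then bsets 2 else ∅))
      (bif f 3 then bsets 3 else ∅)) (bif f 4 then bsets 4 else ∅) = B) B hB
  exact hc f

/-- An element inducing a sign change is in the standard group. -/
theorem U4.mem_std_of_diag {g : G4 F p} {B : Finset (Fin 6)} (h : S.onb.IsDiag (S.ρ g) B) :
    (g : GL (Fin 4) F) ∈ S.Std := by
  classical
  have hev : Even B.card := by
    have hg : S.ρ g ∈ commutator (O S.Q) := S.range_ρ ▸ ⟨g, rfl⟩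
    by_contra hodd
    rw [Nat.not_even_iff_odd] at hodd
    obtain ⟨b, hb⟩ : B.Nonempty := Finset.card_pos.1 hodd.pos
    obtain ⟨r, -, hr⟩ := S.exists_lift (B.erase b) (by
      rw [Finset.card_erase_of_mem hb]; exact Nat.Odd.sub_odd hodd odd_one)
    have hr' : S.ρ r ∈ commutator (O S.Q) := S.range_ρ ▸ ⟨r, rfl⟩
    have hd := ONB.IsDiag.mul S.onb h hr
    rw [show symmDiff B (B.erase b) = {b} by
      ext x; simp only [Finset.mem_symmDiff, Finset.mem_erase, Finset.mem_singleton]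
      by_cases hx : x = b
      · subst hx; simp [hb]
      · simp [hx]] at hd
    have hb1 : S.onb.IsDiag (rO S.Q (S.e b)) {b} := fun l => by
      have hQb : S.Q (S.e b) ≠ 0 := by rw [S.Q_e]; exact one_ne_zero
      by_cases hl : l = b
      · subst hl; rw [if_pos (Finset.mem_singleton_self _), rO_self hQb]
      · rw [if_neg (by simpa using hl), rO_fix (S.polar_e (Ne.symm hl))]
    have heq := ONB.IsDiag.unique S.onb hd hb1
    have hmem := (commutator (O S.Q)).mul_mem hg hr'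
    rw [heq, mem_commutator_iff S.nondeg S.two_K,
      detSign_rO S.nondeg S.two_K (by rw [S.Q_e]; exact one_ne_zero)] at hmem
    exact absurd hmem.1 (by decide)
  obtain ⟨r, hr, hrd⟩ := S.exists_lift B hev
  rcases S.ρ_eq_iff (ONB.IsDiag.unique S.onb h hrd) with e | e
  · exact e ▸ hr
  · rw [e, ← neg_one_mul]
    refine S.Std.mul_mem ?_ hr
    have : (-1 : GL (Fin 4) F) = S.gens 4 * S.gens 4 := Units.ext (by
      simp [U4.gens, U4.gI, smul_smul, S.hi])
    rw [this]
    exact S.Std.mul_mem (S.gens_mem 4) (S.gens_mem 4)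

/-- Every element of the standard group induces a sign change. -/
theorem U4.diag_of_std {g : G4 F p} (hg : (g : GL (Fin 4) F) ∈ S.Std) :
    ∃ B, S.onb.IsDiag (S.ρ g) B := by
  suffices key : ∀ x ∈ S.Std, ∃ h : x ∈ G4 F p, ∃ B, S.onb.IsDiag (S.ρ ⟨x, h⟩) B by
    obtain ⟨_, hB⟩ := key _ hg
    exact hB
  intro x hx
  induction hx using Subgroup.closure_induction with
  | mem x hx =>
    obtain ⟨k, rfl⟩ := hx
    exact ⟨_, bsets k, S.diag_gens k⟩
  | one => exact ⟨one_mem _, ∅, fun l => by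
      rw [show (⟨1, one_mem _⟩ : G4 F p) = 1 from rfl, map_one, if_neg (Finset.notMem_empty l)]; rfl⟩
  | mul x y _ _ hx hy =>
    obtain ⟨hx, A, hA⟩ := hx
    obtain ⟨hy, C, hC⟩ := hy
    refine ⟨mul_mem hx hy, symmDiff A C, ?_⟩
    rw [show (⟨x * y, mul_mem hx hy⟩ : G4 F p) = ⟨x, hx⟩ * ⟨y, hy⟩ from rfl, map_mul]
    exact ONB.IsDiag.mul S.onb hA hC
  | inv x _ hx =>
    obtain ⟨hx, A, hA⟩ := hx
    refine ⟨inv_mem hx, A, ?_⟩
    rw [show (⟨x⁻¹, inv_mem hx⟩ : G4 F p) = (⟨x, hx⟩ : G4 F p)⁻¹ from rfl, map_inv,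
      inv_eq_of_mul_eq_one_right (ONB.IsDiag.sq S.onb hA)]
    exact hA

end Cfsg.Agent.H12.CSix.Four
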